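import Cfsg.Agent.BZ.T.Count
import Cfsg.Agent.TID.BlkContr
import Cfsg.Agent.TO.Can1
import Cfsg.Agent.H588.RIM.Val
import Cfsg.Agent.SmallSimple.InvolColumn
import Cfsg.Agent.H829.GowDesc
import Cfsg.Agent.H447.CTab
import Cfsg.Agent.Blocks.HeightZeroSection

/-!
# BZ / N2, `Ω₇(3)` : the centraliser `(2² × U₄(2)).2` has no block of defect two (helper96)

`num` : the norm of the regular part of a member of height zero is `1 / 4`; the classes `1`, `5`, `3` give more.
`no_four` : no block of a cover has an abelian defect group of order four which contains such an involution.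
-/

set_option autoImplicit false
set_option linter.unusedSectionVars false

namespace Cfsg.Agent.BZ.N2.O7N

open Cfsg Subgroup Cfsg.Agent.BZ.T Cfsg.Agent.BHZ.Spor Cfsg.Agent.Characters.Core Cfsg.Agent.H608.BlockRank
open scoped ComplexConjugate

/-- a central extension with a kernel of order one or three -/
structure Cx {H G : Type} [Group H] [Group G] (π : H →* G) : Prop where
  surj : Function.Surjective π
  cen : π.ker ≤ center H
  dv : Nat.card π.ker ∣ 3

variable {H G : Type} [Group H] [Finite H] [Group G] {π : H →* G} {M : Ideal AlgInt}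

theorem Cx.cube (h : Cx π) {z : H} (hz : π z = 1) : z ^ 3 = 1 :=
  orderOf_dvd_iff_pow_eq_one.1 ((π.ker.orderOf_dvd_natCard hz).trans h.dv)

theorem Cx.comm (h : Cx π) {z : H} (hz : π z = 1) (g : H) : Commute g z := mem_center_iff.1 (h.cen hz) g

theorem Cx.div {a b : H} (e : π a = π b) : π (a⁻¹ * b) = 1 := by rw [map_mul, map_inv, e, inv_mul_cancel]

theorem Cx.uniq (h : Cx π) {a b : H} (ha : a ^ 5 = 1) (hb : b ^ 5 = 1) (e : π a = π b) : a = b := by
  have h1 := Cx.div e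
  rw [← mul_inv_cancel_left a b, (h.comm h1 a).mul_pow, ha, one_mul] at hb
  exact inv_mul_eq_one.1 (pow_eq_one_iff_of_coprime (by decide) |>.1 ⟨hb, h.cube h1⟩)

theorem Cx.five (h : Cx π) {x : G} (hx : orderOf x = 5) (hr : ∀ i : ℕ, ¬ 5 ∣ i → IsConj x (x ^ i)) :
    ∃ a, π a = x ∧ orderOf a = 5 ∧ ∀ i : ℕ, ¬ 5 ∣ i → IsConj a (a ^ i) := by
  have : Fact (Nat.Prime 5) := ⟨Nat.prime_five⟩
  obtain ⟨a, rfl⟩ := h.surj x
  have h1 : π a ^ 5 = 1 := hx ▸ pow_orderOf_eq_one _
  have h2 : π (a ^ 6) = π a := by rw [map_pow, pow_succ, h1, one_mul]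
  have h3 : (a ^ 6) ^ 5 = 1 := by
    rw [← pow_mul, show 6 * 5 = 5 * 3 * 2 from rfl, pow_mul, pow_mul, h.cube ((map_pow π a 5).trans h1), one_pow]
  generalize a ^ 6 = b at h2 h3
  rw [← h2] at hx hr ⊢
  refine ⟨b, rfl, orderOf_eq_prime h3 fun e => ?_, fun i hi => ?_⟩
  · rw [e, map_one, orderOf_one] at hx
    cases hx
  · obtain ⟨c, e⟩ := isConj_iff.1 (hr i hi)
    obtain ⟨c, rfl⟩ := h.surj c
    exact isConj_iff.2 ⟨c, h.uniq (by rw [conj_pow, h3, mul_one, mul_inv_cancel]) (by rw [← pow_mul, mul_comm, pow_mul, h3, one_pow])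
      (by rw [map_mul, map_mul, map_inv, e, map_pow])⟩

theorem Cx.three (h : Cx π) {x : G} (hx : orderOf x = 3) (hr : IsConj x x⁻¹) :
    ∃ a, π a = x ∧ orderOf a = 3 ∧ ∀ i : ℕ, ¬ 3 ∣ i → IsConj a (a ^ i) := by
  have : Fact (Nat.Prime 3) := ⟨Nat.prime_three⟩
  obtain ⟨c, e⟩ := isConj_iff.1 hr
  obtain ⟨c, rfl⟩ := h.surj c
  obtain ⟨a, rfl⟩ := h.surj x
  have h1 : π (a * (c * a * c⁻¹)) = 1 := by rw [map_mul, map_mul, map_mul, map_inv, e, mul_inv_cancel]
  obtain ⟨z, hz⟩ : ∃ z, z = a * (c * a * c⁻¹) := ⟨_, rfl⟩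
  rw [← hz] at h1
  have h2 : c * (a * z) * c⁻¹ = (a * z)⁻¹ := by
    rw [eq_inv_iff_mul_eq_one, ← mul_assoc c, mul_assoc (c * a), ← (h.comm h1 c⁻¹).eq, ← mul_assoc (c * a),
      eq_inv_mul_iff_mul_eq.2 hz.symm, mul_assoc, mul_assoc, ← mul_assoc z a, ← (h.comm h1 a).eq, mul_assoc a, ← (h.comm h1 _).eq,
      mul_assoc a, ← pow_three', h.cube h1, mul_one, inv_mul_cancel]
  have h3 : π (a * z) = π a := by rw [map_mul, h1, mul_one]
  generalize a * z = b at h2 h3
  rw [← h3] at hx ⊢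
  have h4 : π (b ^ 3) = 1 := by rw [map_pow, ← hx, pow_orderOf_eq_one]
  have h5 : (b ^ 3) ^ 2 = 1 := by
    rw [pow_two, ← eq_inv_iff_mul_eq_one, ← inv_pow, ← h2, conj_pow, (h.comm h4 c).eq, mul_inv_cancel_right]
  have h6 : b ^ 3 = 1 := pow_eq_one_iff_of_coprime (by decide) |>.1 ⟨h5, h.cube h4⟩
  refine ⟨b, rfl, orderOf_eq_prime h6 fun e => ?_, fun i hi => ?_⟩
  · rw [e, map_one, orderOf_one] at hx
    cases hx
  · rw [pow_eq_pow_mod i h6]
    rcases (by omega : i % 3 = 1 ∨ i % 3 = 2) with e | e <;> rw [e]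
    · rw [pow_one]
    · exact isConj_iff.2 ⟨c, h2.trans (inv_eq_of_mul_eq_one_left ((pow_succ b 2).symm.trans h6))⟩

theorem Cx.two (h : Cx π) {y : H} (hy : ¬ 2 ∣ orderOf y) {a : ℕ} (ha : 2 ^ a ∣ Nat.card (centralizer ({π y} : Set G))) :
    2 ^ a ∣ Nat.card (centralizer ({y} : Set H)) := by
  have : Fact (Nat.Prime 2) := ⟨Nat.prime_two⟩
  obtain ⟨U, hU⟩ := Sylow.exists_subgroup_card_pow_prime 2 (ha.trans ((Dvd.intro_left _ rfl).trans (card_comap h.surj _).symm.dvd))
  rw [← hU, ← card_map_of_injective (subtype_injective _)]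
  refine card_dvd_of_le ?_
  rintro _ ⟨u, hu, rfl⟩
  obtain ⟨k, hk⟩ := pelt_of_mem (IsPGroup.of_card hU) hu
  exact mem_centralizer_singleton_iff.2 (commute_p_reg h.cen (mem_centralizer_singleton_iff.1 u.2) (congrArg Subtype.val hk) hy)

theorem dvd_of {N i j : ℕ} {v : ℤ} (h0 : N ≠ 0) (h1 : ¬ 2 ^ (i + 1) ∣ N) (h2 : (2 : ℤ) ^ (i + j) ∣ N * v) : (2 : ℤ) ^ j ∣ v := by
  obtain ⟨s, o, ho, rfl⟩ := Nat.exists_eq_two_pow_mul_odd h0
  have h3 : s ≤ i := by_contra fun h => h1 ((pow_dvd_pow 2 (by omega)).trans (Dvd.intro _ rfl))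
  have h4 := (pow_dvd_pow (2 : ℤ) (show s + j ≤ i + j by omega)).trans h2
  rw [pow_add, Nat.cast_mul, Nat.cast_pow, Nat.cast_ofNat, mul_assoc, mul_dvd_mul_iff_left (by positivity)] at h4
  exact (Nat.isCoprime_iff_coprime.2 (Nat.Coprime.pow_left j (Nat.coprime_two_left.2 ho)) : IsCoprime ((2 ^ j : ℕ) : ℤ) o).dvd_of_dvd_mul_left
    (by exact_mod_cast h4)

/-- the value at a rational element of odd prime order -/
theorem Cx.val (h : Cx π) (hH : ¬ 2 ^ 10 ∣ Nat.card H) {ψ : H → ℂ} (hψ : IsIrrCharacter H ψ) (hd : charDegree ψ = 128) {y : H} {r : ℕ}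
    (hr : r.Prime) (h2 : ¬ 2 ∣ r) (hy : orderOf y = r) (hc : ∀ i : ℕ, ¬ r ∣ i → IsConj y (y ^ i)) {i j : ℕ} (hij : i + j = 7)
    (ha : 2 ^ (j + 2) ∣ Nat.card (centralizer ({π y} : Set G))) : ((2 : ℝ) ^ j) ^ 2 ≤ Complex.normSq (ψ y) := by
  obtain ⟨v, h3, h4, -⟩ := H588.RIM.exists_val hψ hr hy hc
  have h5 := SmallSimple.InvolColumn.dvd_index_mul hψ h3
  rw [hd] at h4 h5
  have h6 := dvd_of (i := i) (j := j) index_ne_zero_of_finite (fun e => hH (by
    rw [← (centralizer ({y} : Set H)).card_mul_index, show 10 = j + 2 + (i + 1) by omega, pow_add]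
    exact mul_dvd_mul (h.two (hy ▸ h2) ha) e)) (by rw [hij]; exact h5)
  have h7 : v ≠ 0 := fun e => h2 (by
    rw [e, sub_zero, Int.natCast_dvd_natCast] at h4
    exact ((Nat.prime_dvd_prime_iff_eq hr Nat.prime_two).1 (hr.dvd_of_dvd_pow (n := 7) h4)).symm.dvd)
  have h8 := Int.le_of_dvd (abs_pos.2 h7) ((dvd_abs _ _).2 h6)
  rw [h3, Complex.normSq_intCast, ← pow_two, ← sq_abs (v : ℝ)]
  exact pow_le_pow_left₀ (by positivity) (by exact_mod_cast h8) 2

theorem cls [Fintype G] [DecidableEq G] {f : G → ℝ} (hf : ∀ a b, IsConj a b → f b = f a) (x : G) [DecidablePred fun g => IsConj x g]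
    {c n : ℕ} (hc : Nat.card (centralizer ({x} : Set G)) = c) (hn : n * c = Nat.card G) :
    ∑ g, (if IsConj x g then f g else 0) = n * f x := by
  have h1 := H447.CTab.card_class_mul x
  rw [← hn, hc] at h1
  rw [← Finset.sum_filter, Finset.sum_congr rfl fun g hg => hf x g (Finset.mem_filter.1 hg).2, Finset.sum_const, nsmul_eq_mul,
    Nat.eq_of_mul_eq_mul_right (hc ▸ Nat.card_pos) h1]

theorem ord_conj {a b : G} (h : IsConj a b) : orderOf b = orderOf a := by
  obtain ⟨c, rfl⟩ := isConj_iff.1 h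
  exact MulEquiv.orderOf_eq (MulAut.conj c) a

theorem normSq_cen {ψ : H → ℂ} (hψ : IsIrrCharacter H ψ) {z : H} (hz : z ∈ center H) (g : H) :
    Complex.normSq (ψ (g * z)) = Complex.normSq (ψ g) := by
  have h1 := congrArg Complex.normSq (cen_root hψ hz)
  rw [map_pow, map_one, pow_eq_one_iff_of_nonneg (Complex.normSq_nonneg _) (orderOf_pos z).ne'] at h1
  rw [cen_mul hψ hz, map_mul, h1, one_mul]

theorem reg_mul {a b : H} (h : Commute a b) (ha : IsPRegular 2 a) (hb : IsPRegular 2 b) : IsPRegular 2 (a * b) := fun e =>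
  (Nat.prime_two.dvd_mul.1 (e.trans h.orderOf_mul_dvd_mul_orderOf)).elim ha hb

/-- **no block of defect two** -/
theorem num (h : Cx π) (hG : Nat.card G = 207360) {t : H} (ht : t ∈ center H) (t2 : orderOf t = 2) {x y : G} (x5 : orderOf x = 5)
    (rx : ∀ i : ℕ, ¬ 5 ∣ i → IsConj x (x ^ i)) (cx : Nat.card (centralizer ({x} : Set G)) = 40) (y3 : orderOf y = 3)
    (ry : IsConj y y⁻¹) (cy : Nat.card (centralizer ({y} : Set G)) = 864) (hM : IsPModular 2 M) {c : Set (IrrCharacter H)}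
    (hc : IsPBlock M c) (hd : blockDefect 2 c = 2) : False := by
  classical
  have : Fact (Nat.Prime 2) := ⟨Nat.prime_two⟩
  have := Finite.of_surjective π h.surj
  have := Fintype.ofFinite H
  have := Fintype.ofFinite G
  have := Blocks.Local.isPrime_of_isPModular hM
  obtain ⟨ψ, hψ, h0⟩ := Blocks.HeightZeroSection.exists_height_zero (Blocks.Basic.isPBlock_nonempty hc) 2
  obtain ⟨n, n1, n2⟩ := TID.Blk.contr_of_zero hM hc hψ h0 hψ
  have hdeg := TID.Blk.fact_degree (p := 2) hψ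
  obtain ⟨ψ, hi⟩ := ψ
  obtain ⟨F, hF⟩ : ∃ F : H → ℝ, F = fun s => Complex.normSq (pReg 2 ψ s) := ⟨_, rfl⟩
  have F1 : ∀ s, IsPRegular 2 s → F s = Complex.normSq (ψ s) := fun s hs => by rw [hF, ← pReg_of hs ψ]
  have F2 : ∀ s, ¬ IsPRegular 2 s → F s = 0 := fun s hs => by simp only [hF, pReg_of_not hs, map_zero]
  have F0 : ∀ s, 0 ≤ F s := fun s => hF ▸ Complex.normSq_nonneg _
  have hH : Nat.card H = Nat.card π.ker * 207360 := by rw [← hG, ← card_top (G := G), ← card_comap h.surj, comap_top, card_top]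
  have hk : (0 : ℝ) < Nat.card π.ker := Nat.cast_pos.2 Nat.card_pos
  have h1 : ∑ s, Complex.normSq (ψ s) = Nat.card H := by
    have h1 := classInner_irr_self hi
    rw [classInner_def, inv_mul_eq_one₀ card_ne_zero_complex] at h1
    simp only [Complex.mul_conj] at h1
    exact_mod_cast h1.symm
  have h2 : 4 * ∑ s, F s = n * Nat.card H := by
    rw [hd, h0, classInner_def, Finset.sum_congr rfl (g := fun s => (F s : ℂ)) fun s _ => ?_, mul_left_comm,
      inv_mul_eq_iff_eq_mul₀ card_ne_zero_complex, pow_zero, one_mul, mul_comm _ (n : ℂ), show (((2 : ℕ) : ℂ)) ^ 2 = 4 by norm_num] at n2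
    · exact_mod_cast n2
    · by_cases e : IsPRegular 2 s
      · rw [F1 s e, pReg_of e, Complex.mul_conj]
      · rw [F2 s e, pReg_of_not e, zero_mul, Complex.ofReal_zero]
  have h3 : 2 * ∑ s, F s ≤ Nat.card H := by
    rw [two_mul, ← h1]
    nth_rewrite 2 [← Equiv.sum_comp (Equiv.mulRight t)]
    rw [← Finset.sum_add_distrib]
    refine Finset.sum_le_sum fun s _ => ?_
    rw [Equiv.coe_mulRight]
    by_cases e : IsPRegular 2 (s * t)
    · rw [F1 _ e, normSq_cen hi ht, F2 s fun e' => ?_, zero_add]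
      have := reg_mul (a := s⁻¹) (b := s * t) ((Commute.refl s).mul_right (mem_center_iff.1 ht s)).inv_left
        (by rwa [IsPRegular, orderOf_inv]) e
      rw [inv_mul_cancel_left, IsPRegular, t2] at this
      exact this dvd_rfl
    · rw [F2 _ e, add_zero]
      by_cases e' : IsPRegular 2 s
      · exact (F1 s e').le
      · exact (F2 s e').le.trans (Complex.normSq_nonneg _)
  have h4 : 4 * ∑ s, F s ≤ Nat.card H := by
    have h4 : (0 : ℝ) < Nat.card H := Nat.cast_pos.2 Nat.card_pos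
    have h5 : (n : ℝ) ≤ 2 := le_of_mul_le_mul_right (by linarith) h4
    have h6 : n ≤ 2 := by exact_mod_cast h5
    have h7 : (n : ℝ) ≤ 1 := by exact_mod_cast (show n ≤ 1 by omega)
    exact h2.trans_le (mul_le_of_le_one_left h4.le h7)
  have h5 : ∀ a b, π a = π b → F b = F a := fun a b e => by
    have h5 : ∀ a b, π a = π b → IsPRegular 2 a → IsPRegular 2 b := fun a b e ha => mul_inv_cancel_left a b ▸
      reg_mul (h.comm (Cx.div e) a) ha fun e' => absurd (e'.trans (orderOf_dvd_of_pow_eq_one (h.cube (Cx.div e)))) (by decide)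
    by_cases e' : IsPRegular 2 a
    · rw [F1 a e', F1 b (h5 a b e e'), ← normSq_cen hi (h.cen (Cx.div e)) a, mul_inv_cancel_left]
    · rw [F2 a e', F2 b fun e'' => e' (h5 b a e.symm e'')]
  obtain ⟨f, hf⟩ : ∃ f : G → ℝ, ∀ s, f (π s) = F s :=
    ⟨fun g => F (Function.surjInv h.surj g), fun s => h5 _ _ (Function.surjInv_eq h.surj _).symm⟩
  have h6 : 4 * ∑ g, f g ≤ 207360 := by
    have h6 := H829.GowDesc.sum_comp_surj π h.surj fun g => (f g : ℂ)
    simp only [hf] at h6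
    have h7 : ∑ s, F s = Nat.card π.ker * ∑ g, f g := by exact_mod_cast h6
    rw [h7, hH, Nat.cast_mul, mul_left_comm] at h4
    exact_mod_cast le_of_mul_le_mul_left h4 hk
  have h7 : ∀ a b, IsConj a b → f b = f a := fun a b e => by
    obtain ⟨k, rfl⟩ := isConj_iff.1 e
    obtain ⟨k, rfl⟩ := h.surj k
    obtain ⟨a, rfl⟩ := h.surj a
    have h7 := ord_conj (isConj_iff.2 ⟨k, rfl⟩ : IsConj a (k * a * k⁻¹))
    rw [← map_inv, ← map_mul, ← map_mul, hf, hf]
    by_cases e' : IsPRegular 2 a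
    · rw [F1 a e', F1 _ (by rwa [IsPRegular, h7]), isIrr_isClassFunction hi]
    · rw [F2 a e', F2 _ (by rwa [IsPRegular, h7])]
  have h8 : ∀ g, 0 ≤ f g := fun g => by
    obtain ⟨g, rfl⟩ := h.surj g
    exact hf g ▸ F0 g
  have h9 : ∑ g, ((if IsConj 1 g then f g else 0) + (if IsConj x g then f g else 0) + if IsConj y g then f g else 0) ≤ ∑ g, f g :=
    Finset.sum_le_sum fun g _ => by
      have k1 := fun e : IsConj 1 g => (ord_conj e).trans orderOf_one
      have k2 := fun e : IsConj x g => (ord_conj e).trans x5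
      have k3 := fun e : IsConj y g => (ord_conj e).trans y3
      have k4 := h8 g
      by_cases e1 : IsConj 1 g
      · rw [if_pos e1, if_neg fun e => absurd ((k1 e1).symm.trans (k2 e)) (by decide),
          if_neg fun e => absurd ((k1 e1).symm.trans (k3 e)) (by decide), add_zero, add_zero]
      rw [if_neg e1, zero_add]
      by_cases e2 : IsConj x g
      · rw [if_pos e2, if_neg fun e => absurd ((k2 e2).symm.trans (k3 e)) (by decide), add_zero]
      rw [if_neg e2, zero_add]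
      split_ifs
      exacts [le_rfl, k4]
  rw [Finset.sum_add_distrib, Finset.sum_add_distrib, cls h7 1 (n := 1) rfl (by
      rw [one_mul, (centralizer_eq_top_iff_subset (s := {1})).2 (Set.singleton_subset_iff.2 (one_mem _)), card_top]),
    cls h7 x (n := 5184) cx (by rw [hG]), cls h7 y (n := 240) cy (by rw [hG])] at h9
  obtain ⟨x, rfl, x1, x2⟩ := h.five x5 rx
  obtain ⟨y, rfl, y1, y2⟩ := h.three y3 ry
  rw [← map_one π, hf, hf, hf, F1 1 (by simp [IsPRegular]), F1 x (by rw [IsPRegular, x1]; decide), F1 y (by rw [IsPRegular, y1]; decide),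
    Blocks.Basic.irr_one_eq_charDegree hi, Complex.normSq_natCast] at h9
  have h10 : Nat.card π.ker = 1 ∨ Nat.card π.ker = 3 := (Nat.dvd_prime Nat.prime_three).1 h.dv
  have h11 : 2 ^ 7 ∣ charDegree ψ := by
    have h11 : 9 ≤ (Nat.card H).factorization 2 := (Nat.prime_two.pow_dvd_iff_le_factorization Nat.card_pos.ne').1 (by omega)
    refine (Nat.prime_two.pow_dvd_iff_le_factorization (Blocks.Basic.charDegree_pos hi).ne').2 ?_
    change (charDegree ψ).factorization 2 + _ = _ at hdeg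
    omega
  have h12 := Complex.normSq_nonneg (ψ x)
  have h13 := Complex.normSq_nonneg (ψ y)
  have h14 : charDegree ψ = 128 := by
    have h14 := Blocks.Basic.charDegree_pos hi
    have h15 : charDegree ψ < 256 := by
      by_contra h15
      have h16 : (256 : ℝ) ≤ charDegree ψ := by exact_mod_cast not_lt.1 h15
      have h17 := mul_le_mul h16 h16 (by norm_num) (Nat.cast_nonneg _)
      push_cast at h9
      linarith
    omega
  have h15 := h.val (by omega) hi h14 Nat.prime_five (by decide) x1 x2 (i := 6) (j := 1) rfl (by rw [cx]; decide)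
  have h16 := h.val (by omega) hi h14 Nat.prime_three (by decide) y1 y2 (i := 4) (j := 3) rfl (by rw [cy]; decide)
  rw [h14] at h9
  push_cast at h9
  linarith

theorem card_cen [Finite G] {t u : G} {x : centralizer ({t} : Set G)} (ht : t ∈ zpowers u) (hx : (x : G) ∈ zpowers u) (hu : u = t * x) :
    Nat.card (centralizer ({x} : Set (centralizer ({t} : Set G)))) = Nat.card (centralizer ({u} : Set G)) := by
  rw [← card_map_of_injective (subtype_injective _)]
  refine congrArg (fun U : Subgroup G => Nat.card U) (le_antisymm ?_ fun g hg => ?_)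
  · rintro _ ⟨g, hg, rfl⟩
    exact mem_centralizer_singleton_iff.2 (hu ▸ Commute.mul_right (mem_centralizer_singleton_iff.1 g.2)
      (congrArg Subtype.val (mem_centralizer_singleton_iff.1 hg)))
  · have h1 : Commute u g := (mem_centralizer_singleton_iff.1 hg).symm
    exact ⟨⟨g, mem_centralizer_singleton_iff.2 (commute_of_mem_zpowers h1 ht).symm⟩,
      mem_centralizer_singleton_iff.2 (Subtype.ext (commute_of_mem_zpowers h1 hx).symm), rfl⟩

theorem conj_cen {t u : G} {x z : centralizer ({t} : Set G)} {m a b : ℕ} (ht : t = u ^ a) (hx : (x : G) = u ^ b) (h : IsConj u (u ^ m))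
    (h1 : t ^ m = t) (h2 : x ^ m = z) : IsConj x z := by
  obtain ⟨c, e⟩ := isConj_iff.1 h
  have h3 : ∀ k : ℕ, c * u ^ k * c⁻¹ = (u ^ k) ^ m := fun k => by rw [← conj_pow, e, ← pow_mul, ← pow_mul, mul_comm]
  refine isConj_iff.2 ⟨⟨c, mem_centralizer_singleton_iff.2 (mul_inv_eq_iff_eq_mul.1 ?_)⟩, Subtype.ext ?_⟩
  · exact (ht ▸ h3 a :).trans h1
  · rw [← h2, coe_mul, coe_mul, coe_inv, SubmonoidClass.coe_pow, hx, h3]

/-- **no defect group of order four** -/
theorem no_four (h : Cx π) (hM : IsPModular 2 M) {B : Set (IrrCharacter H)} (hB : IsPBlock M B) {D : Subgroup H}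
    (hD : IsDefectGroup 2 M B D) (hab : ∀ a ∈ D, ∀ b ∈ D, a * b = b * a) (h4 : Nat.card D = 4) {t : H} (ht : t ∈ D) (t2 : orderOf t = 2)
    (ct : Nat.card (centralizer ({π t} : Set G)) = 207360) {u v : G} (u1 : orderOf u = 10) (u2 : π t = u ^ 5)
    (u3 : Nat.card (centralizer ({u} : Set G)) = 40) (u4 : ∀ m : ℕ, m.Coprime 10 → IsConj u (u ^ m)) (v1 : orderOf v = 6)
    (v2 : π t = v ^ 3) (v3 : Nat.card (centralizer ({v} : Set G)) = 864) (v4 : IsConj v (v ^ 5)) : False := by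
  have : Fact (Nat.Prime 2) := ⟨Nat.prime_two⟩
  have := Finite.of_surjective π h.surj
  obtain ⟨θ, hθ⟩ := TO.boxCAN0 H 2 M B D hM hB hD fun a ha => mem_centralizer_iff.2 fun b hb => hab b hb a ha
  obtain ⟨c, h1, h2⟩ := hθ.loc ht
  have h3 : D ≤ TO.Cu t := fun d hd => mem_centralizer_singleton_iff.2 (hab d hd t ht)
  have h5 := S0908.result 2 M hM c h1.1 _ h2.hD
  rw [Nat.card_congr (subgroupOfEquivOfLe h3).toEquiv, h4] at h5
  have h6 : t ^ 2 = 1 := t2 ▸ pow_orderOf_eq_one t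
  have h7 : π t ^ 2 = 1 := by rw [← map_pow, h6, map_one]
  have h8 := gd_of_coprime h.cen h7 (Nat.Coprime.of_dvd_right h.dv (by decide))
  let ρ : TO.Cu t →* centralizer ({π t} : Set G) := (π.comp (TO.Cu t).subtype).codRestrict _ fun s =>
    mem_centralizer_singleton_iff.2 (Commute.map (mem_centralizer_singleton_iff.1 s.2) π)
  have h9 : Cx ρ := by
    refine ⟨fun g => ?_, fun z hz => mem_center_iff.2 fun g => Subtype.ext (h.comm (congrArg Subtype.val hz) g), ?_⟩
    · obtain ⟨s, hs⟩ := h.surj g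
      exact ⟨⟨s, mem_centralizer_singleton_iff.2 (h8 t s rfl (hs ▸ (mem_centralizer_singleton_iff.1 g.2).symm)).symm⟩, Subtype.ext hs⟩
    · refine dvd_trans ?_ h.dv
      rw [← card_map_of_injective (subtype_injective _)]
      refine card_dvd_of_le ?_
      rintro _ ⟨z, hz, rfl⟩
      exact congrArg Subtype.val hz
  have k1 : u ^ 10 = 1 := u1 ▸ pow_orderOf_eq_one u
  have k2 : v ^ 6 = 1 := v1 ▸ pow_orderOf_eq_one v
  have k3 : ∀ m, m % 2 = 1 → π t ^ m = π t := fun m hm => by rw [pow_eq_pow_mod m h7, hm, pow_one]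
  let x : centralizer ({π t} : Set G) := ⟨u ^ 6, mem_centralizer_singleton_iff.2 (u2 ▸ Commute.pow_pow_self u 6 5)⟩
  let y : centralizer ({π t} : Set G) := ⟨v ^ 4, mem_centralizer_singleton_iff.2 (v2 ▸ Commute.pow_pow_self v 4 3)⟩
  have k4 : orderOf x = 5 := by rw [← orderOf_coe, orderOf_pow' u (by decide), u1]; rfl
  have k5 : orderOf y = 3 := by rw [← orderOf_coe, orderOf_pow' v (by decide), v1]; rfl
  refine num h9 ct (t := ⟨t, mem_centralizer_singleton_iff.2 rfl⟩)
    (mem_center_iff.2 fun g => Subtype.ext (mem_centralizer_singleton_iff.1 g.2)) (by rw [← orderOf_coe, t2]) k4 (fun i hi => ?_)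
    ((card_cen (u2 ▸ npow_mem_zpowers u 5) (npow_mem_zpowers u 6) ?_).trans u3) k5 ?_
    ((card_cen (v2 ▸ npow_mem_zpowers v 3) (npow_mem_zpowers v 4) ?_).trans v3) hM h1.1
    (Nat.pow_right_injective le_rfl h5.symm)
  · refine conj_cen (m := 6 * i + 5) u2 rfl (u4 _ ?_) (k3 _ (by omega)) ?_
    · exact Nat.Coprime.mul_right (m := 2) (n := 5) (Nat.coprime_two_right.2 (Nat.odd_iff.2 (by omega)))
        (Nat.prime_five.coprime_iff_not_dvd.2 (by omega)).symm
    · rw [pow_eq_pow_mod _ (k4 ▸ pow_orderOf_eq_one x), pow_eq_pow_mod i (k4 ▸ pow_orderOf_eq_one x), show (6 * i + 5) % 5 = i % 5 by omega]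
  · change u = π t * u ^ 6
    rw [u2, ← pow_add, pow_succ, k1, one_mul]
  · refine conj_cen v2 rfl v4 (k3 5 rfl) (eq_inv_of_mul_eq_one_left ?_)
    rw [← pow_succ, show 5 + 1 = 3 * 2 from rfl, pow_mul, ← k5, pow_orderOf_eq_one, one_pow]
  · change v = π t * v ^ 4
    rw [v2, ← pow_add, pow_succ, k2, one_mul]

end Cfsg.Agent.BZ.N2.O7N
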