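import Cfsg.Agent.BZ.N2.Tool
import Cfsg.Agent.BZ.N2.O73A
import Cfsg.Agent.BZ.X.O73A
import Cfsg.Agent.S2095

/-!
# BZ / N2, the row of `Ω₇(3)` (helper96)

`loc` : an abelian local datum of order divisible by four is a four-group with an involution of type `2`;
`boxO73 : Tool → BoxO73`.
-/

set_option autoImplicit false
set_option maxRecDepth 100000
set_option synthInstance.maxSize 4000
set_option linter.unusedSectionVars false

namespace Cfsg.Agent.BZ.N2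

open Cfsg Subgroup Cfsg.Agent.BZ.T Cfsg.Agent.BHZ.Spor Cfsg.Agent.MK.C3L.O Cfsg.Agent.TAB.Eng Cfsg.Agent.BZ.X.O7
open Cfsg.Agent.H64.O73Perm hiding ev_eq_one
open Cfsg.Agent.Fischer.Derived Cfsg.Agent.Fischer.O73 Cfsg.Agent.Fischer.Y322 Cfsg.Agent.Fischer.Y322Iso
open Cfsg.Agent.MK.S7.O7 (fin8 iso_H8)

namespace O7L

section

variable {S : Type} [Group S] [Finite S] {E : Subgroup S} {g : S} (hp : IsPGroup 2 E) (hgD : ∀ d ∈ E, Commute d g)
  (hmax : ∀ P : Subgroup S, IsPGroup 2 P → E ≤ P → (∀ k ∈ P, Commute k g) → P ≤ E)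
include hp hgD hmax

theorem syl : ∃ R : Sylow 2 (centralizer ({g} : Set S)), R.toSubgroup.map (Subgroup.subtype _) = E := by
  obtain ⟨R, hR⟩ := (hp.comap_subtype (K := centralizer ({g} : Set S))).exists_le_sylow
  have h1 : E ≤ R.toSubgroup.map (Subgroup.subtype _) := fun d hd =>
    ⟨⟨d, mem_centralizer_singleton_iff.2 (hgD d hd)⟩, hR hd, rfl⟩
  refine ⟨R, le_antisymm (hmax _ (R.isPGroup'.map _) h1 ?_) h1⟩
  rintro _ ⟨k, -, rfl⟩
  exact mem_centralizer_singleton_iff.1 k.2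

theorem pow_dvd {a : ℕ} (h : 2 ^ a ∣ Nat.card (centralizer ({g} : Set S))) : 2 ^ a ∣ Nat.card E := by
  have : Fact (Nat.Prime 2) := ⟨Nat.prime_two⟩
  obtain ⟨R, rfl⟩ := syl hp hgD hmax
  rw [card_map_of_injective (subtype_injective _)]
  exact R.pow_dvd_card_of_pow_dvd_card h

theorem into {s : S} (h2 : s ^ 2 = 1) (hs : Commute s g) : ∃ c, Commute c g ∧ c * s * c⁻¹ ∈ E := by
  have : Fact (Nat.Prime 2) := ⟨Nat.prime_two⟩
  obtain ⟨R, rfl⟩ := syl hp hgD hmax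
  obtain ⟨Q, hQ⟩ := (isPGroup_zpowers (p := 2) (x := (⟨s, mem_centralizer_singleton_iff.2 hs⟩ : centralizer ({g} : Set S))) (k := 1)
    (Subtype.ext h2)).exists_le_sylow
  obtain ⟨c, rfl⟩ := MulAction.exists_smul_eq (centralizer ({g} : Set S)) Q R
  exact ⟨c, mem_centralizer_singleton_iff.1 c.2, _, smul_mem_pointwise_smul _ (MulAut.conj c) _ (hQ (mem_zpowers _)), rfl⟩

end

theorem exists_ty {t : ℕ} (ht : t < 81) (h : 0 < dat.cnt t) : ∃ v, td.ty v = t :=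
  let ⟨⟨v, hv⟩⟩ := (Nat.card_pos_iff.1 (h.trans_eq (td_mass.2 t ht).symm)).1
  ⟨v, hv⟩

/-- an element of type `s` with a prescribed power -/
theorem root_of {s k : ℕ} (hs : s < 81) (h : 0 < dat.cnt s) {w : List (Fin 8)} {c : ℕ} (h1 : Sg (dat.pwf s k) w c) {g : H8}
    (hg : IsConj (ev x8 w) g) : ∃ u, td.ty u = s ∧ pi u ^ k = g := by
  obtain ⟨v, hv⟩ := exists_ty hs h
  obtain ⟨c, e⟩ := isConj_iff.1 ((h1.spec (x := v ^ k) (by rw [td.pow, hv])).1.symm.trans hg)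
  obtain ⟨c, rfl⟩ := ext_pi.surj c
  exact ⟨c * v * c⁻¹, (td.conj _ c).trans hv, by rw [← e, map_mul, map_mul, map_inv, conj_pow, map_pow]⟩

theorem fit {E : Subgroup H8} {g : H8} (hp : IsPGroup 2 E) (hgD : ∀ d ∈ E, Commute d g)
    (hmax : ∀ P : Subgroup H8, IsPGroup 2 P → E ≤ P → (∀ k ∈ P, Commute k g) → P ≤ E) {s m : ℕ} (hs : s < 81) (h : 0 < dat.cnt s)
    (hm : dat.ord s = m * 2) {w : List (Fin 8)} {c : ℕ} (h1 : Sg (dat.pwf s 2) w c) (hg : IsConj (ev x8 w) g) :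
    ∃ u, td.ty u = s ∧ pi u ^ 2 = g ∧ pi u ^ m ∈ E := by
  have := fin8
  obtain ⟨u, h2, h3⟩ := root_of hs h h1 hg
  obtain ⟨c, h4, h5⟩ := into hp hgD hmax (s := pi u ^ m) (by
    rw [← pow_mul, ← map_pow, ← hm, ← h2, ← td.ord, pow_orderOf_eq_one, map_one]) (h3 ▸ Commute.pow_pow_self _ m 2)
  obtain ⟨c, rfl⟩ := ext_pi.surj c
  refine ⟨c * u * c⁻¹, (td.conj _ c).trans h2, ?_, ?_⟩ <;> rw [map_mul, map_mul, map_inv, conj_pow]
  · rw [h3, h4.eq, mul_inv_cancel_right]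
  · exact h5

theorem cas : ∀ t < 81, dat.ord t % 4 = 2 → dat.pwf t (dat.ord t / 2) = 3 ∨ t = 35 ∨ dat.pwf t 2 ∈ [15, 64] ∨
    dat.pwf t 2 ∈ [41, 42] ∨ dat.pwf t 2 ∈ [0, 4, 5, 6, 7, 8, 38, 73, 43] := by decide +kernel

theorem bad : ∀ t ∈ [0, 4, 5, 6, 7, 8, 38, 73, 43], ∃ f ∈ fam, ∃ r ∈ f.1,
    Sg t r.w (4585351680 / f.2) ∧ (2 ^ 4 ∣ 4585351680 / f.2 ∨ ¬ 4 ∣ 4585351680 / f.2) := by
  unfold Sg
  decide +kernel

theorem sgs : Sg 35 [0, 1, 5, 7, 4] 324 ∧ (∀ t ∈ [15, 64], Sg t [1, 7, 6, 2] 120) ∧ Sg 46 [4, 2, 5, 3, 7] 20 ∧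
    (∀ t ∈ [41, 42], Sg t [6, 4, 0, 1, 2, 3, 6, 7, 1, 2, 6, 4, 0, 1, 2, 3, 6, 7, 1, 2] 324) ∧ Sg 2 [4, 0] 207360 ∧
    Sg 45 [2, 5, 6, 3, 7, 0] 40 ∧ Sg 26 [6, 3, 7, 0, 5, 1] 864 := by
  unfold Sg
  decide +kernel

theorem constr0 : Constr 2 (ev x8 [6, 0, 3]) := by
  obtain ⟨v, hv⟩ := exists_ty (t := 3) (by decide) (by decide)
  exact (constr hv).conj ((by unfold Sg; decide +kernel : Sg 3 [6, 0, 3] 13824).spec hv).1.symm

/-- an involution of type `3` which commutes with an element of type `9` -/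
theorem exists_three : ∃ s, IsConj (ev x8 [6, 0, 3]) s ∧ s ^ 2 = 1 ∧ Commute s (ev x8 [0, 1, 5, 7, 4] ^ 2) := by
  obtain ⟨c, hc⟩ : ∃ c : List (Fin 8), c = [3, 2, 6, 4, 5, 1, 2, 3, 4, 3, 2] := ⟨_, rfl⟩
  have h1 : trivW (rep 2 [6, 0, 3]) = true := by decide +kernel
  have h2 : trivW (c ++ [6, 0, 3] ++ c.reverse ++ rep 2 [0, 1, 5, 7, 4] ++ (c ++ [6, 0, 3] ++ c.reverse).reverse ++
      (rep 2 [0, 1, 5, 7, 4]).reverse) = true := by
    rw [hc]
    decide +kernel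
  rw [← triv_iff, ev_rep] at h1
  rw [← triv_iff, ev_append, ev_append, ev_append, ev_reverse x8_liftable, ev_reverse x8_liftable, ev_rep, ev_append, ev_append,
    ev_reverse x8_liftable, mul_inv_eq_one, mul_inv_eq_iff_eq_mul] at h2
  exact ⟨_, isConj_iff.2 ⟨ev x8 c, rfl⟩, by rw [conj_pow, h1, mul_one, mul_inv_cancel], h2⟩

/-- **the abelian local data** -/
theorem loc {E : Subgroup H8} (hD : LocB 2 E) (hab : ∀ a ∈ E, ∀ b ∈ E, a * b = b * a) (h4 : 4 ∣ Nat.card E) (hr : ¬ RegTriv 2 E) :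
    Nat.card E = 4 ∧ ∃ x, td.ty x = 2 ∧ pi x ∈ E := by
  have := fin8
  have : Fact (Nat.Prime 2) := ⟨Nat.prime_two⟩
  have hc : ∀ s ∈ E, ¬ Constr 2 s := fun s hs h => hr (hD.rt_of_constr hs (hab s hs) h)
  obtain ⟨y, hy, hy2, hyD⟩ := exists_central hD.pg (N := E) (fun e => by
    rw [e, card_bot] at h4
    exact absurd h4 (by decide)) le_rfl fun d hd u hu => E.mul_mem (E.mul_mem hd hu) (E.inv_mem hd)
  obtain ⟨y, rfl, h1⟩ := ext_pi.exists_lift y (n := 2) (by decide) (hy2 ▸ pow_orderOf_eq_one y)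
  obtain ⟨g, hg, hgD, hmax⟩ := hD.syl
  obtain ⟨g, rfl⟩ := ext_pi.surj g
  have h3 : Commute g y := ext_pi.good_of_pow (n := 2) (by decide) h1 g (hgD _ hy).symm
  have h2 : ¬ 2 ∣ orderOf g := fun e => by
    have h2 : g ^ (orderOf (pi g) * 3) = 1 :=
      (pow_mul _ _ _).trans (ext_pi.cube (ext_pi.mem_iff.2 ((map_pow pi g _).trans (pow_orderOf_eq_one _))))
    have := e.trans (orderOf_dvd_of_pow_eq_one h2)
    omega
  have h5 : orderOf y = 2 := orderOf_eq_prime h1 fun e => by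
    rw [e, map_one, orderOf_one] at hy2
    cases hy2
  have h6 : dat.ord (td.ty (g * y)) = orderOf g * 2 := by
    rw [← td.ord, h3.orderOf_mul_eq_mul_orderOf_of_coprime (h5 ▸ (Nat.prime_two.coprime_iff_not_dvd.2 h2).symm), h5]
  have h7 : dat.pwf (td.ty (g * y)) 2 = td.ty g := by
    rw [← td.pow, h3.mul_pow, h1, mul_one, TD.pow_coprime (Nat.prime_two.coprime_iff_not_dvd.2 h2)]
  have h8 : ∀ x : H8, (∀ d ∈ E, Commute d x) → Nat.card E ∣ Nat.card (centralizer ({x} : Set H8)) := fun x h =>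
    card_dvd_of_le fun d hd => mem_centralizer_singleton_iff.2 (h d hd)
  obtain ⟨s35, s15, s46, s41, -⟩ := sgs
  rcases cas _ (td.lt (g * y)) (by omega) with e | e | e | e | e
  · rw [h6, Nat.mul_div_cancel _ two_pos, ← td.pow, h3.mul_pow, pow_orderOf_eq_one, one_mul,
      TD.pow_coprime (h5 ▸ (Nat.prime_two.coprime_iff_not_dvd.2 h2).symm)] at e
    exact absurd (constr e) (hc _ hy)
  · obtain ⟨k, h9⟩ := isConj_iff.1 (s35.spec e).1
    obtain ⟨s, k1, k2, k3⟩ := exists_three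
    have h10 : orderOf g = 3 := by
      rw [e] at h6
      exact Nat.eq_of_mul_eq_mul_right two_pos h6.symm
    have h11 : pi g = k * (ev x8 [0, 1, 5, 7, 4] ^ 2) ^ 2 * k⁻¹ := by
      rw [← conj_pow, ← conj_pow, h9, ← map_pow, ← map_pow, h3.mul_pow, h1, mul_one, ← pow_mul, show 2 * 2 = 3 + 1 from rfl, pow_succ,
        ← h10, pow_orderOf_eq_one, one_mul]
    obtain ⟨c, -, h12⟩ := into hD.pg hgD hmax (s := k * s * k⁻¹) (by rw [conj_pow, k2, mul_one, mul_inv_cancel])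
      (h11 ▸ ((k3.pow_right 2).map (MulAut.conj k) :))
    exact absurd (constr0.conj (k1.trans ((isConj_iff.2 ⟨k, rfl⟩).trans (isConj_iff.2 ⟨c, rfl⟩)))) (hc _ h12)
  · obtain ⟨h9, h10⟩ := (s15 _ e).spec h7.symm
    obtain ⟨u, u1, u2, u3⟩ := fit hD.pg hgD hmax (s := 46) (m := 5) (by decide) (by decide) (by decide) (s15 15 (by decide)) h9
    have h11 := (pow_dvd hD.pg hgD hmax (a := 3) (by rw [h10]; decide)).trans (h8 (pi u) fun d hd => by
      rw [show pi u = pi u ^ 5 * ((pi u ^ 2) ^ 2)⁻¹ by group]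
      exact Commute.mul_right (hab d hd _ u3) ((u2 ▸ hgD d hd :).pow_right 2).inv_right)
    rw [(s46.spec u1).2] at h11
    exact absurd h11 (by decide)
  · obtain ⟨h9, h10⟩ := (s41 _ e).spec h7.symm
    obtain ⟨u, u1, -, u3⟩ := fit hD.pg hgD hmax (s := 68) (m := 9) (by decide) (by decide) (by decide) (s41 41 (by decide)) h9
    refine ⟨?_, u ^ 9, by rw [td.pow, u1]; decide, map_pow pi u 9 ▸ u3⟩
    obtain ⟨a, ha⟩ := IsPGroup.iff_card.1 hD.pg
    have h11 := h8 _ hgD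
    rw [h10, ha] at h11
    have h12 : a ≤ 2 := by_contra fun h => absurd ((pow_dvd_pow 2 (show 3 ≤ a by omega)).trans h11) (by decide)
    exact Nat.dvd_antisymm (ha ▸ pow_dvd_pow 2 h12) h4
  · obtain ⟨f, -, r, -, h9, h10⟩ := bad _ e
    rw [← (h9.spec h7.symm).2] at h10
    exact (h10.elim (fun h => hr (rb E hD (pow_dvd hD.pg hgD hmax h))) fun h => h (h4.trans (h8 _ hgD))).elim

theorem ord_pi {u : Trip} {s n : ℕ} (hu : td.ty u = s) (h : dat.ord s = n) (h1 : ∀ p ≤ n, 2 ≤ p → p ∣ n → dat.pwf s (n / p) ∉ [0, 4]) :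
    orderOf (pi u) = n := by
  have h2 : orderOf u = n := by rw [td.ord, hu, h]
  refine orderOf_eq_of_pow_and_pow_div_prime (h2 ▸ orderOf_pos u) (by rw [← map_pow, ← h2, pow_orderOf_eq_one, map_one]) fun p hp hd e => ?_
  refine h1 p (Nat.le_of_dvd (h2 ▸ orderOf_pos u) hd) hp.two_le hd ?_
  rw [← hu, ← td.pow]
  obtain ⟨j, hj, e⟩ := (mem_zpowers_iff_mem_range_orderOf (x := zz)).1 (ext_pi.mem_iff.2 ((map_pow pi u _).trans e)) |> Finset.mem_image.1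
  have h3 := ty_w (f := ([⟨[], [0, 4, 4], [(0, 3)]⟩], 1)) List.mem_cons_self List.mem_cons_self (j := j)
    (zz_ord ▸ Finset.mem_range.1 hj)
  rw [ev_nil, mul_one, e] at h3
  replace hj : j < 3 := zz_ord ▸ Finset.mem_range.1 hj
  interval_cases j <;> rw [h3 (by decide)] <;> decide

theorem cv {n : ℕ} (hn : n ∣ 3) : Cv n H8 := fun K _ _ σ M B D H hc => by
  have := fin8
  have : Fact (Nat.Prime 2) := ⟨Nat.prime_two⟩
  obtain ⟨h1, x, h2, t, h3, h4⟩ := loc H.locB H.ab (H.inj ▸ H.four) fun h => H.nc' (by rw [H.bot_of_rt h]; infer_instance)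
  obtain ⟨-, -, -, -, s2, s45, s26⟩ := sgs
  obtain ⟨h5, h6⟩ := s2.spec h2
  obtain ⟨u, u1, u2⟩ := root_of (s := 45) (k := 5) (by decide) (by decide) s2 h5
  obtain ⟨v, v1, v2⟩ := root_of (s := 26) (k := 3) (by decide) (by decide) s2 h5
  have h7 : orderOf (σ t) = 2 := h4 ▸ ord_pi h2 (by decide) (by decide)
  have h8 : orderOf t = 2 := by
    have h8 := orderOf_injective _ H.inj' ⟨t, h3⟩
    rw [← orderOf_coe, ← orderOf_coe] at h8
    exact h8.symm.trans h7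
  have h9 : ∀ {w : Trip} {s c m : ℕ} {l : List (Fin 8)}, Sg s l c → td.ty w = s → m.Coprime (dat.ord s) → IsConj (pi w) (pi w ^ m) :=
    fun {w _ _ m _} h e hm => map_pow MK.C3L.O.pi w m ▸ (h.spec e).1.symm.trans (h.spec ((TD.pow_coprime (by rwa [td.ord, e])).trans e)).1
  exact O7N.no_four ⟨H.surj, H.ker.le, by rw [H.ker, hc]; exact hn⟩ H.hM H.hB H.hD H.abD (H.inj ▸ h1) h3 h8 (h4 ▸ h6)
    (ord_pi u1 (by decide) (by decide)) (h4.trans u2.symm) (s45.spec u1).2 (fun m hm => h9 s45 u1 hm)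
    (ord_pi v1 (by decide) (by decide)) (h4.trans v2.symm) (s26.spec v1).2 (h9 s26 v1 (by decide))

end O7L

/-- **the row of `Ω₇(3)`** -/
theorem boxO73 (T : Tool) : BoxO73 := fun F _ _ hF => by
  obtain ⟨e⟩ := iso_H8 F hF
  have := simple_H8
  have := e.isSimpleGroup
  refine T.cv _ (m := 6) ((IsSimpleGroup.eq_bot_or_eq_top_of_normal _ inferInstance).resolve_right fun h => gen01_ne ?_)
    (S2095.result hF) (by decide) fun n h1 h2 => (O7L.cv ((Nat.prime_two.coprime_iff_not_dvd.2 h2).symm.dvd_of_dvd_mul_left h1)).of_equiv e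
  have h3 := congrArg (fun a => toO (e a)) (mem_center_iff.1 (h.ge (mem_top (e.symm (x8 1)))) (e.symm (x8 0)))
  simpa only [map_mul, MulEquiv.apply_symm_apply, toO_x8] using h3

end Cfsg.Agent.BZ.N2
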