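import Cfsg.Agent.BZ.N2.Defs
import Cfsg.Agent.Characters.CCBasic
import Cfsg.Agent.H333.QS6.Lift
import Cfsg.Agent.H471.KPiSylow
import Cfsg.Agent.S4690

/-!
# BZ / N2 : the reductions (helper27)

* `Hn.bot_of_rt`, `Hn.ab_of_cyc`, `Hn.fusH`, `Hn.fusP`, `Hy.good`, `Hy.four`;
* `tool_of : KMAll → Tool`.
-/

set_option autoImplicit false
set_option linter.unusedSectionVars false
set_option linter.style.haveILetI false

namespace Cfsg.Agent.BZ.N2

open Cfsg Cfsg.Lie Subgroup Cfsg.Agent.KM Cfsg.Agent.KM.BK Cfsg.Agent.BHZ.Nil Cfsg.Agent.Blocks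
open Cfsg.Agent.H644.CentralQuot (defl infl)
open scoped commutatorElement

variable {M : Ideal AlgInt} {K : Type} [Group K] [Finite K] {B : Set (IrrCharacter K)} {D : Subgroup K} {S : Type} [Group S]
  {σ : K →* S}

theorem Hn.perf (H : Hn M B D σ) : commutator S = ⊤ := by
  rw [commutator_def, ← map_top_of_surjective σ H.surj, ← map_commutator, ← commutator_def, H.qs.1.commutator_eq_top]

theorem Hn.bot_of_rt (H : Hn M B D σ) (h : BHZ.Spor.RegTriv 2 (D.map σ)) : D.map σ = ⊥ := by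
  have := Fact.mk Nat.prime_two
  have := Finite.of_surjective σ H.surj
  refine H.loc.eq_bot_of_abelian (eq_top_iff.2 fun x _ => mem_KK_iff.2 fun y hy hr => ?_) H.perf (ab_iff.1 H.ab)
  rw [h y (mem_centralizer_iff.1 hy) hr, one_mul, mul_one]

theorem ab_of_cyc (hc : σ.ker ≤ center K) (h : IsCyclic (D.map σ)) : Ab D := by
  refine ab_iff.2 ((σ.subgroupMap D).isMulCommutative_of_isCyclic_of_ker_le_center fun x hx => ?_)
  have h1 : σ x = 1 := congrArg Subtype.val hx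
  exact mem_center_iff.2 fun y => Subtype.ext (mem_center_iff.1 (hc h1) y)

theorem Hn.ab_of_cyc (H : Hn M B D σ) (h : IsCyclic (D.map σ)) : Ab D := N2.ab_of_cyc H.ker.le h

/-- fusion in a central extension of `K` -/
theorem Hn.fusH (H : Hn M B D σ) {L : Type} [Group L] [Finite L] {ψ : L →* K} (hs : Function.Surjective ψ) (hc : ψ.ker ≤ center L)
    {Q : Subgroup L} (hQ : IsPGroup 2 Q) (hD : Q.map ψ ≤ D) {x : L} (hx : x ∈ normalizer (Q : Set L)) (hr : ¬ 2 ∣ orderOf x)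
    (h : ∀ y ∈ centralizer (Q : Set L), ¬ 2 ∣ orderOf y → x * y = y * x) : x ∈ centralizer (Q : Set L) := by
  have := Fact.mk Nat.prime_two
  refine mem_centralizer_of_reg hc hQ hr (mem_centralizer_of_nilpotent H.hM H.nil H.hD hD (map_mem_normalizer hx) (reg_map hr) ?_)
  intro y hy hyr
  obtain ⟨y, rfl⟩ := hs y
  obtain ⟨n, h1, h2⟩ := exists_reg_lift y hyr
  rw [← h2] at hy ⊢
  rw [← map_mul, h _ (mem_centralizer_of_reg hc hQ h1 hy) h1, map_mul]

/-- fusion in the simple quotient -/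
theorem Hn.fusP (H : Hn M B D σ) {Q : Subgroup S} (hQ : Q ≤ D.map σ) {x : S} (hx : x ∈ normalizer (Q : Set S)) (hr : ¬ 2 ∣ orderOf x)
    (h : ∀ y ∈ centralizer (Q : Set S), ¬ 2 ∣ orderOf y → y ∈ ⁅centralizer ({x} : Set S), centralizer ({x} : Set S)⁆) :
    x ∈ centralizer (Q : Set S) := by
  have := Fact.mk Nat.prime_two
  have hc := H.ker.le
  have hs := sat_defect H.hM H.hB H.hD hc
  have hQ' : (D ⊓ Q.comap σ).map σ = Q := by
    apply le_antisymm
    · rintro _ ⟨a, ha, rfl⟩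
      exact ha.2
    · intro y hy
      obtain ⟨a, ha, rfl⟩ := hQ hy
      exact ⟨a, ⟨ha, hy⟩, rfl⟩
  have hQp : IsPGroup 2 (D ⊓ Q.comap σ : Subgroup K) := H.pg.to_inf_left
  have hQs : Sat 2 σ (D ⊓ Q.comap σ) := fun z hz n hn => ⟨hs z hz n hn, mem_comap.2 (hz ▸ one_mem Q)⟩
  generalize hQ0 : D ⊓ Q.comap σ = Q0 at hQ' hQp hQs
  have hQ0D : Q0 ≤ D := hQ0 ▸ inf_le_left
  subst hQ'
  obtain ⟨x, rfl⟩ := H.surj x
  obtain ⟨n, hn, hxn⟩ := exists_reg_lift x hr
  rw [← hxn] at hx h ⊢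
  generalize x ^ n = x at hx h hn
  refine map_mem_centralizer (mem_centralizer_of_nilpotent H.hM H.nil H.hD hQ0D (hQs.mem_normalizer hc hQp hx) hn fun y hy hyr => ?_)
  have h1 := h _ (map_mem_centralizer hy) (reg_map hyr)
  rw [← map_comap_eq_self_of_surjective H.surj (centralizer ({σ x} : Set S)), ← map_commutator] at h1
  obtain ⟨c, h2, h3⟩ := h1
  have h4 := mem_centralizer_singleton_iff.1 (cent_commutator_le hc (y := x)
    (fun k hk => mem_centralizer_singleton_iff.1 (mem_comap.1 hk)) h2)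
  have h5 : c⁻¹ * y ∈ center K := hc (by rw [MonoidHom.mem_ker, map_mul, map_inv, h3, inv_mul_cancel])
  rw [← mul_inv_cancel_left c y, ← mul_assoc x, ← h4, mul_assoc c, mem_center_iff.1 h5 x, mul_assoc c]

theorem Hy.inj' (H : Hy M B D σ) : Function.Injective (σ.subgroupMap D) := by
  have := Fact.mk Nat.prime_two
  refine (MonoidHom.ker_eq_bot_iff _).1 ((eq_bot_iff_forall _).2 fun x hx => ?_)
  exact Subtype.ext (eq_one_of_pg H.pg (H.ker ▸ H.zp) x.2 (congrArg Subtype.val hx))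

theorem Hy.inj (H : Hy M B D σ) : Nat.card (D.map σ) = Nat.card D :=
  (Nat.card_congr (Equiv.ofBijective _ ⟨H.inj', σ.subgroupMap_surjective D⟩)).symm

theorem Hy.four (H : Hy M B D σ) : 4 ∣ Nat.card D :=
  have := Fact.mk Nat.prime_two
  by_contra fun h => H.nc (BHZ.Spor.cyclic_of_not_sq_dvd H.pg h)

theorem Hy.nc' (H : Hy M B D σ) : ¬ IsCyclic (D.map σ) := fun _ => H.nc (isCyclic_of_injective (σ.subgroupMap D) H.inj')

/-- the defect class : `D` is a Sylow subgroup of `C(g)`, and `C(g)` is the preimage of `C(σ g)` -/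
theorem Hy.good (H : Hy M B D σ) : ∃ g : K, ¬ 2 ∣ orderOf g ∧ (∀ x, Commute (σ x) (σ g) → Commute x g) ∧ (∀ d ∈ D, Commute d g) ∧
    ∀ P : Subgroup K, IsPGroup 2 P → D ≤ P → (∀ k ∈ P, Commute k g) → P ≤ D := by
  have := Fact.mk Nat.prime_two
  have := Local.isPrime_of_isPModular H.hM
  obtain ⟨g, hg, P, e⟩ := H.hD
  refine ⟨g, H614.Spin.isPRegular_of_isDefectClass H.hM H.hB hg, fun x hx => ?_, fun d hd => ?_, fun U hU hle hc => ?_⟩
  · obtain ⟨χ, hχ⟩ := Basic.isPBlock_nonempty H.hB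
    have h1 : (χ : K → ℂ) g ≠ 0 := fun h => hg.2.2 χ hχ (by
      rw [centralChar, h, mul_zero, zero_div]
      exact Local.memLocalIdeal_zero)
    have h2 : g⁻¹ * (x * g * x⁻¹) ∈ center K := H.ker.le (by
      rw [MonoidHom.mem_ker, map_mul, map_mul, map_mul, map_inv, map_inv, hx.eq, mul_inv_cancel_right, inv_mul_cancel])
    have h3 := BZ.T.cen_mul χ.2 h2 g
    rw [mul_inv_cancel_left, Characters.Core.isCharacter_isClassFunction (Characters.Core.isIrr_isCharacter χ.2), eq_comm,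
      mul_eq_right₀ h1, div_eq_one_iff_eq (Basic.irr_one_ne_zero χ.2)] at h3
    have h4 := H.faith χ hχ _ h2 h3
    rw [inv_mul_eq_one, eq_mul_inv_iff_mul_eq] at h4
    exact h4.symm
  · rw [e] at hd
    obtain ⟨w, -, rfl⟩ := hd
    exact mem_centralizer_singleton_iff.1 w.2
  · have hPC : U ≤ centralizer ({g} : Set K) := fun k hk => mem_centralizer_singleton_iff.2 (hc k hk)
    rw [e] at hle ⊢
    rw [← P.is_maximal' hU.comap_subtype (map_le_iff_le_comap.1 hle)]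
    exact (map_subgroupOf_eq_of_le hPC).ge

theorem exists_lift (hs : Function.Surjective σ) (hk : σ.ker = center K) (hS : center S = ⊥) (U : Subgroup K) [U.Normal]
    (hU : U ≤ center K) : ∃ τ : K ⧸ U →* S, (D.map (QuotientGroup.mk' U)).map τ = D.map σ ∧ Function.Surjective τ ∧
      τ.ker = center (K ⧸ U) := by
  have hle : U ≤ σ.ker := hk ▸ hU
  have h1 : Function.Surjective (QuotientGroup.lift U σ hle) := fun y => let ⟨x, hx⟩ := hs y; ⟨x, hx⟩
  refine ⟨_, by rw [map_map]; rfl, h1, le_antisymm (fun x hx => ?_) fun x hx => ?_⟩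
  · obtain ⟨x, rfl⟩ := QuotientGroup.mk_surjective x
    refine mem_center_iff.2 fun y => ?_
    obtain ⟨y, rfl⟩ := QuotientGroup.mk_surjective y
    exact congrArg _ (mem_center_iff.1 (hk.le hx) y)
  · rw [MonoidHom.mem_ker, ← mem_bot, ← hS]
    refine mem_center_iff.2 fun y => ?_
    obtain ⟨y, rfl⟩ := h1 y
    rw [← map_mul, mem_center_iff.1 hx y, map_mul]

/-- **the induction** -/
theorem ind (hK : KMAll.{0}) (hM : IsPModular 2 M) (hS : center S = ⊥)
    (h : ∀ (K : Type) [Group K] [Finite K] (σ : K →* S) (B : Set (IrrCharacter K)) (D : Subgroup K), ¬ Hy M B D σ) (n : ℕ) :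
    ∀ (K : Type) [Group K] [Finite K] (σ : K →* S), Nat.card K = n → IsQuasisimple K → Function.Surjective σ → σ.ker = center K →
      ∀ (B : Set (IrrCharacter K)) (D : Subgroup K), IsPBlock M B → IsDefectGroup 2 M B D → EqD 2 B → Ab (D.map σ) →
        IsCyclic (D.map σ) := by
  have := Fact.mk Nat.prime_two
  induction n using Nat.strong_induction_on with
  | _ n ih =>
  intro K _ _ σ hn hq hs hk B D hB hD hX hA
  letI := Fintype.ofFinite K
  by_cases hZ : 2 ∣ Nat.card (center K)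
  · obtain ⟨z, hz⟩ := exists_prime_orderOf_dvd_card' 2 hZ
    have ho : orderOf (z : K) = 2 := by rw [orderOf_coe, hz]
    have := zpowers_normal z.2
    have hU : zpowers (z : K) ≤ center K := zpowers_le.2 z.2
    have hg : IsPGroup 2 (zpowers (z : K)) := IsPGroup.of_card (n := 1) (by rw [Nat.card_zpowers, ho, pow_one])
    obtain ⟨τ, e, h1, h2⟩ := exists_lift (D := D) hs hk hS _ hU
    refine e ▸ ih _ (hn ▸ Red.card_lt _ fun h => ?_) _ τ rfl (Red.quasi_quot hq _ hU) h1 h2 _ _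
      (H644.CentralQuot.isPBlock_defl hM hU hg hB) (H658.isDefectGroup_defl hM hU hg hB hD).2
      (eqD_defl (fun θ hθ => BH.PB.height_infl hM hB hU hg hθ) hX) (e ▸ hA)
    rw [zpowers_eq_bot] at h
    rw [h, orderOf_one] at ho
    exact absurd ho (by decide)
  have := Local.isPrime_of_isPModular hM
  obtain ⟨χ, hχ⟩ := Basic.isPBlock_nonempty hB
  obtain ⟨U, hU⟩ := TO.exists_kerZ χ.2
  have hle : U ≤ center K := fun z hz => ((hU z).1 hz).1
  by_cases h0 : U = ⊥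
  · have hf : ∀ ψ ∈ B, ∀ z ∈ center K, (ψ : K → ℂ) z = (ψ : K → ℂ) 1 → z = 1 := fun ψ hψ z hz h => by
      rw [← mem_bot, ← h0]
      exact (hU z).2 ⟨hz, TO.ker_common hM hB hZ ⟨ψ, hψ, rfl⟩ ⟨χ, hχ, rfl⟩ hz h⟩
    have h1 : Ab D := ab_of_map (isPGroup_defect hD) (hk ▸ hZ) hA
    by_contra h2
    exact h K σ B D ⟨⟨hM, hB, hD, nil_of_ab hK hM hB hD (ab_iff.1 h1) hX, hX, hA, hq, hs, hk⟩, h1,
      fun _ => h2 (isCyclic_of_surjective _ (σ.subgroupMap_surjective D)), hZ, cyclic_center χ (hf χ hχ), hf⟩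
  have := TO.normal_of_le_center hle
  have hUp : ¬ 2 ∣ Nat.card U := fun hd => hZ (hd.trans (card_dvd_of_le hle))
  obtain ⟨c, h1, h2, h3, h4⟩ := TO.exists_defl hM hB U hUp (f := (χ : K → ℂ)) ⟨χ, hχ, rfl⟩ fun z hz => ((hU z).1 hz).2
  obtain rfl : c = defl U B := Set.ext fun ψ =>
    TO.rd_mem_Fn.symm.trans ((h2 ψ).trans (TO.rd_mem_Fn (χ := infl U ψ)))
  have h5 : ∀ ψ ∈ B, ∃ θ, infl U θ = ψ := fun ψ hψ => exists_infl U ψ fun z hz => by
    obtain ⟨f, hf⟩ := h3 ψ ⟨ψ, hψ, rfl⟩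
    rw [hf, Function.comp_apply, Function.comp_apply, map_one, QuotientGroup.mk'_apply,
      (QuotientGroup.eq_one_iff z).2 hz]
  obtain ⟨τ, e, h6, h7⟩ := exists_lift (D := D) hs hk hS U hle
  exact e ▸ ih _ (hn ▸ Red.card_lt U h0) _ τ rfl (Red.quasi_quot hq U hle) h6 h7 _ _ h1 (h4 D hD)
    (eqD_defl (fun θ _ => Red.height_bij U h5 θ) hX) (e ▸ hA)

theorem row_of_hy (hK : KMAll.{0}) (hS : center S = ⊥)
    (h : ∀ (K : Type) [Group K] [Finite K] (σ : K →* S) (M : Ideal AlgInt) (B : Set (IrrCharacter K)) (D : Subgroup K), ¬ Hy M B D σ) :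
    RowN 2 S := fun _ K _ _ σ M B D H =>
  H.ab_of_cyc (ind hK H.hM hS (fun K _ _ σ => h K σ M) _ K σ rfl H.qs H.surj H.ker B D H.hB H.hD H.eqd H.ab)

/-- the members of the block -/
theorem Hy.mem (H : Hy M B D σ) : Nat.card B = Nat.card D ∧
    ∀ χ ∈ B, ∀ ψ ∈ B, charDegree (χ : K → ℂ) = charDegree (ψ : K → ℂ) := by
  have := Fact.mk Nat.prime_two
  have := Fintype.ofFinite K
  obtain ⟨Φ, h1⟩ := S4690.result 2 M H.hM B H.nil D H.hD
  have hc : ∀ a b : D, a * b = b * a := fun a b => Subtype.ext (H.abD a a.2 b b.2)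
  have h2 : ∀ χ ∈ B, blockHeight 2 B (χ : K → ℂ) = 0 := fun χ hχ => (h1 ⟨χ, hχ⟩).trans (by
    rw [Basic.charDegree_of_eq (n := 1) ((Characters.CCBasic.irr_apply_one_of_comm hc (Φ ⟨χ, hχ⟩).2).trans Nat.cast_one.symm),
      Nat.factorization_one, Finsupp.zero_apply])
  exact ⟨(Nat.card_congr Φ).trans (Characters.CCBasic.card_irr_of_comm hc), fun χ hχ ψ hψ => H.eqd χ hχ ψ hψ (h2 χ hχ) (h2 ψ hψ)⟩

theorem cv_deg (L : List ℕ) (hL : TAB.Use.DegList S L) (h : ∀ d ∈ L, L.count d < 4) : Cv 1 S := fun K _ _ σ M B D H hc => by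
  classical
  have := Fact.mk Nat.prime_two
  have := Local.isPrime_of_isPModular H.hM
  obtain ⟨χ, hE⟩ := hL
  let e : K ≃* S := MulEquiv.ofBijective σ ⟨(MonoidHom.ker_eq_bot_iff σ).1 (H.ker.trans (card_eq_one.1 hc)), H.surj⟩
  obtain ⟨ψ₀, h0⟩ := Basic.isPBlock_nonempty H.hB
  have h1 : ∀ ψ : B, ∃ j : Fin L.length, (H649.irrMap e ψ.1 : S → ℂ) = χ j ∧ L[j] = charDegree (ψ₀ : K → ℂ) := fun ψ => by
    obtain ⟨j, hj, h1⟩ := hE.all _ (H649.irrMap e ψ.1).2
    refine ⟨⟨j, hj⟩, h1, ?_⟩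
    rw [← H.mem.2 _ ψ.2 _ h0, ← H649.charDegree_irrMap e, h1, Basic.charDegree_of_eq (hE.deg j hj)]
    exact (List.getD_eq_getElem _ _ hj).symm
  choose j h2 h3 using h1
  have h4 : Nat.card B ≤ Nat.card {i : Fin L.length // L[i] = charDegree (ψ₀ : K → ℂ)} :=
    Nat.card_le_card_of_injective (fun ψ => ⟨j ψ, h3 ψ⟩) fun a b hab => Subtype.ext (H649.irrMap_injective e
      (Subtype.ext (by rw [h2, h2, Subtype.mk.inj hab])))
  have h5 := Fin.card_filter_univ_eq_vector_get_eq_count (charDegree (ψ₀ : K → ℂ)) (⟨L, rfl⟩ : List.Vector ℕ L.length)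
  have h6 := h _ (h3 ⟨ψ₀, h0⟩ ▸ List.getElem_mem (j ⟨ψ₀, h0⟩).2)
  rw [H.mem.1, Nat.card_eq_fintype_card (α := {i : Fin L.length // _}), Fintype.card_subtype] at h4
  exact absurd ((Nat.le_of_dvd Nat.card_pos H.four).trans (h4.trans h5.le)) (not_le.2 h6)

theorem cv_three [Finite S] (h1 : ¬ 27 ∣ Nat.card S) (h2 : ∀ P : Sylow 2 S, ¬ IsMulCommutative (P : Subgroup S))
    (h3 : ∀ y : S, ¬ 2 ∣ orderOf y → y ≠ 1 → 4 ∣ Nat.card (centralizer ({y} : Set S)) → orderOf y = 3) : Cv 3 S :=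
  fun K _ _ σ M B D H hc => by
  have := Fact.mk Nat.prime_two
  have := Fact.mk Nat.prime_three
  obtain ⟨g, g1, g2, g3, g4⟩ := H.good
  by_cases h0 : σ g = 1
  · obtain ⟨P, hP⟩ := H.pg.exists_le_sylow
    have e := le_antisymm hP (g4 P P.2 hP fun k _ => g2 k (h0 ▸ Commute.one_right _))
    exact h2 (P.mapSurjective H.surj) (ab_iff.1 (by rw [Sylow.coe_mapSurjective, ← e]; exact H.ab))
  have h4 := h3 (σ g) (reg_map g1) h0 (H.four.trans (H.inj ▸ card_dvd_of_le (by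
    rintro _ ⟨d, hd, rfl⟩
    exact mem_centralizer_singleton_iff.2 ((g3 d hd).map σ))))
  have hz : IsPGroup 3 σ.ker := IsPGroup.of_card (n := 1) (by rw [H.ker, hc, pow_one])
  have h5 : IsPGroup 3 (zpowers (σ g)) := IsPGroup.of_card (n := 1) (by rw [Nat.card_zpowers, h4, pow_one])
  obtain ⟨P, hP⟩ := (h5.comap_of_ker_isPGroup σ hz).exists_le_sylow
  have hg : g ∈ (P : Subgroup K) := hP (mem_zpowers (σ g))
  have hZ : center K ≤ P := fun z hz => hP (show σ z ∈ zpowers (σ g) by rw [show σ z = 1 from H.ker.ge hz]; exact one_mem _)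
  have h6 : IsMulCommutative ((P : Subgroup K).map σ) := BHZ.Spor.comm_of_not_cube_dvd (P.2.map σ) fun h =>
    h1 (h.trans (card_subgroup_dvd_card _))
  refine H333.QS6.Lift.not_dvd_center_of_comm H.qs.1.commutator_eq_top P (by_contra fun hn => ?_) hc.symm.dvd
  have h7 := H471.KPi.sq_mul_card_center_le P.2 hn
  have h8 : Nat.card P = Nat.card ((P : Subgroup K).map σ) * 3 := by
    rw [← relIndex_ker, H.ker, relIndex, ← ((center K).subgroupOf P).card_mul_index,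
      Nat.card_congr (subgroupOfEquivOfLe hZ).toEquiv, hc, mul_comm]
  obtain ⟨a, ha⟩ := (P.2.map σ).exists_card_eq
  have h9 : a < 3 := by_contra fun h => h1 (((pow_dvd_pow 3 (not_lt.1 h)).trans ha.symm.dvd).trans (card_subgroup_dvd_card _))
  have h10 : (center K).subgroupOf P < center P := lt_of_le_of_ne
    (fun z hz => mem_center_iff.2 fun y => Subtype.ext (mem_center_iff.1 hz y)) fun e => h0 (H.ker.ge (show (⟨g, hg⟩ : P) ∈
      (center K).subgroupOf P from e ▸ mem_center_iff.2 fun y => Subtype.ext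
        (g2 y (ab_iff.2 h6 _ ⟨y, y.2, rfl⟩ _ ⟨g, hg, rfl⟩))))
  have h11 := Set.ncard_lt_ncard (show (((center K).subgroupOf P : Subgroup P) : Set P) ⊂ (center P : Subgroup P) from h10)
  rw [← Nat.card_coe_set_eq, ← Nat.card_coe_set_eq, SetLike.coe_sort_coe, SetLike.coe_sort_coe,
    Nat.card_congr (subgroupOfEquivOfLe hZ).toEquiv, hc] at h11
  rw [h8, ha] at h7
  interval_cases a <;> omega

/-- **the reductions** -/
theorem tool_of (hK : KMAll.{0}) : Tool where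
  cv := fun S _ A _ m hS hA hm h => row_of_hy hK hS fun K _ _ σ M B D H => by
    obtain ⟨f, hf⟩ := H95.StemCover.exists_surj_ker hA H.qs.1.commutator_eq_top σ H.surj H.ker.le
    have hc : IsCyclic σ.ker := H.ker ▸ H.cyc
    refine h _ ?_ H.zp K σ M B D H rfl
    rw [← H.ker, ← IsCyclic.exponent_eq_card]
    refine Monoid.exponent_dvd_of_forall_pow_eq_one fun g => ?_
    obtain ⟨a, rfl⟩ := hf g
    rw [← map_pow, hm, map_one]
  odd := fun _ _ _ _ hA h _ _ _ _ σ _ _ _ H =>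
    have := Fact.mk Nat.prime_two
    ab_of_map H.pg (fun e => h (e.trans (H95.StemCover.card_ker_dvd hA H.qs.1.commutator_eq_top σ H.surj H.ker.le))) H.ab
  rc := fun _ _ h _ _ _ _ _ _ _ _ H => H.ab_of_cyc ((h _ H.locB).elim (fun e => by rw [H.bot_of_rt e]; infer_instance) id)
  st := fun _ _ _ _ _ hA h hS _ K _ _ σ M B D H => hS K σ M H.qs H.surj H.ker
    (fun e => h (e.trans (H.ker ▸ H95.StemCover.card_ker_dvd hA H.qs.1.commutator_eq_top σ H.surj H.ker.le))) H.hM B D H.hB H.hD H.eqd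
  deg := fun _ _ => cv_deg
  three := fun _ _ _ => cv_three

end Cfsg.Agent.BZ.N2
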