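import Cfsg.Agent.BZ.N2.A0
import Cfsg.Agent.BZ.N2.Tool
import Cfsg.Agent.KM.A.Main
import Cfsg.Agent.BZ.X.U43
import Cfsg.Agent.S2508

/-!
# BZ / N2, type A : the rows of the linear and unitary groups (helper11)

`rowPsl`, `rowPsu`.
-/

set_option autoImplicit false
set_option linter.unusedSectionVars false
set_option maxHeartbeats 400000

namespace Cfsg.Agent.BZ.N2

open Cfsg Subgroup Matrix Cfsg.Agent.KM Cfsg.Agent.BHZ.Nil Cfsg.Agent.KM.A

namespace TA

variable {F : Type} [Field F] [Fintype F]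

/-- the row from the universal cover -/
theorem row_cover {Y : Type} [Group Y] [Finite Y] (hY : commutator Y = ⊤) {C : Type} [CommGroup C] [Finite C]
    (hA : HasSchurMultiplier (Y ⧸ center Y) C) (hd : Nat.card (center Y) = Nat.card C)
    (h : ∀ E : Subgroup Y, Loc 2 Y E → Fus E → IsMulCommutative E) : RowN 2 (Y ⧸ center Y) := fun _ K _ _ σ M B D H => by
  have := Fact.mk Nat.prime_two
  have hπ := QuotientGroup.mk'_surjective (center Y)
  obtain ⟨ψ, h5, h6⟩ := H95.StemCover.exists_cover' H.perf hA (QuotientGroup.mk' _)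
    (H95.StemCover.isStem hY hπ (QuotientGroup.ker_mk' _).le) (by rw [QuotientGroup.ker_mk', hd])
    H.qs.1.commutator_eq_top σ H.surj H.ker.le
  have hc : ψ.ker ≤ center Y := fun y hy => by
    rw [← QuotientGroup.ker_mk' (center Y), MonoidHom.mem_ker, ← h6, MonoidHom.mem_ker.1 hy, map_one]
  have hL := loc_of_nilpotent H.hM H.nil H.hD (π := MonoidHom.id K) Function.surjective_id
    (ker_le_center_of_injective Function.injective_id)
  rw [Subgroup.map_id] at hL
  obtain ⟨E, h1, -, rfl⟩ := hL.lift h5 hc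
  refine (BK.ab_iff.2 (h E h1 fun Q g hQ hg x hx hr hy => ?_)).map ψ
  refine H.fusH (ψ := ψ.comp (MulAut.conj g).toMonoidHom) (h5.comp (MulAut.conj g).surjective) (fun y hy => ?_) hQ
    (by rw [← Subgroup.map_map]; exact map_mono hg) hx hr fun y h2 _ => (hy y h2).symm
  have h2 : g * y * g⁻¹ ∈ center Y := hc hy
  have h3 := mem_center_iff.1 h2 g
  rw [inv_mul_cancel_right, mul_right_inj] at h3
  rwa [← h3]

theorem row_SL (h2 : (2 : F) ≠ 0) {n : ℕ} (hY : commutator (SpecialLinearGroup (Fin (n + 1)) F) = ⊤)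
    (hA : HasCyclicSchurMultiplier (ProjectiveSpecialLinearGroup (Fin (n + 1)) F) (Nat.gcd (n + 1) (Fintype.card F - 1))) :
    RowN 2 (ProjectiveSpecialLinearGroup (Fin (n + 1)) F) :=
  have : NeZero (Nat.gcd (n + 1) (Fintype.card F - 1)) := ⟨Nat.gcd_ne_zero_left n.succ_ne_zero⟩
  have := Fact.mk Nat.prime_two
  row_cover hY hA (by rw [S0280.card_center_SL n.succ_pos, card_mult_zmod]) fun _ =>
    comm_of_fus h2 ⊤ (cutClosed_top (by exact_mod_cast h2)) (lin_top h2 _) _ SpecialLinearGroup.toGL_injective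
      (by rw [range_SL, top_inf_eq])

theorem row_SU (h2 : (2 : F) ≠ 0) {n q : ℕ} (hq : Fintype.card F = q ^ 2) (hn : 3 ≤ n + 1)
    (hY : commutator (SU (n + 1) F q) = ⊤) (hA : HasCyclicSchurMultiplier (PSU (n + 1) F q) (Nat.gcd (n + 1) (q + 1))) :
    RowN 2 (PSU (n + 1) F q) := by
  have : NeZero (Nat.gcd (n + 1) (q + 1)) := ⟨Nat.gcd_ne_zero_left n.succ_ne_zero⟩
  have := Fact.mk Nat.prime_two
  let σ : F →+* F :=
    { toFun := fun x => x ^ q
      map_one' := one_pow q
      map_mul' := fun x y => mul_pow x y q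
      map_zero' := zero_pow fun h => by have := Fintype.one_lt_card (α := F); simp [hq, h] at this
      map_add' := LieClassical.HermBasic.add_pow_q hq }
  refine row_cover hY hA (by rw [S0279.result hq _ hn, card_mult_zmod]) fun _ =>
    comm_of_fus h2 (GU (n + 1) F q)
      (cutClosed_preserving (by exact_mod_cast h2) (biAdd_herm _ q (Nat.card_eq_fintype_card.trans hq)))
      (lin_GU h2 hq (σ := σ) (fun _ => rfl) n) (SpecialLinearGroup.toGL.comp (SU (n + 1) F q).subtype)
      (SpecialLinearGroup.toGL_injective.comp Subtype.val_injective) ?_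
  ext g
  exact ⟨fun ⟨y, hy⟩ => hy ▸ ⟨y.2, Units.ext y.1.2⟩, fun h => ⟨⟨⟨g, congrArg Units.val h.2⟩, h.1⟩, Units.ext rfl⟩⟩

/-- `L₂(9)` -/
theorem rc_nine (h : Fintype.card F = 9) (hS : center (ProjectiveSpecialLinearGroup (Fin 2) F) = ⊥) :
    T.RC 2 (ProjectiveSpecialLinearGroup (Fin 2) F) := by
  have := Fact.mk Nat.prime_two
  refine T.rc_of_reg (T.reg_of_prime fun t h1 h2 h3 => ?_)
  have h4 := S0243.result (F := F) rfl 2 le_rfl
  have h5 := ((S2508.result (F := F) (by omega) (by omega)).1 (by omega)).le ⟨t, rfl⟩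
  have h6 := card_mul_index (centralizer ({t} : Set (ProjectiveSpecialLinearGroup (Fin 2) F)))
  have h7 := orderOf_dvd_natCard _ (mem_centralizer_singleton_iff.2 rfl : t ∈ centralizer {t})
  have h8 : (centralizer ({t} : Set (ProjectiveSpecialLinearGroup (Fin 2) F))).index ≠ 1 := fun e => by
    have h9 := (centralizer_eq_top_iff_subset.1 (index_eq_one.1 e)) (Set.mem_singleton t)
    rw [hS] at h9
    rw [mem_bot.1 h9, orderOf_one] at h1
    exact Nat.not_prime_one h1
  have h9 : ¬ orderOf t ∣ 2 ^ 3 := fun e => h2 ((Nat.prime_dvd_prime_iff_eq h1 Nat.prime_two).1 (h1.dvd_of_dvd_pow e))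
  rw [h] at h4 h5
  norm_num [Fin.prod_univ_succ] at h4
  simp only [Set.mem_insert_iff, Set.mem_singleton_iff] at h5
  generalize Nat.card (centralizer ({t} : Set (ProjectiveSpecialLinearGroup (Fin 2) F))) = c at h3 h6 h7
  obtain rfl | rfl : c = 8 ∨ c = 4 := by rcases h5 with e | e | e | e | e <;> rw [e] at h6 h8 <;> omega
  · exact h9 h7
  · exact h9 (h7.trans (by norm_num))

theorem row_rc {S : Type} [Group S] (h : T.RC 2 S) : RowN 2 S := fun _ _ _ _ _ _ _ _ H =>
  H.ab_of_cyc ((h _ H.locB).elim (fun e => by rw [H.bot_of_rt e]; infer_instance) id)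

end TA

/-- **the row of the linear groups** -/
theorem rowPsl : For RowN CPsl := by
  rintro l hl S _ _ _ hS ⟨F, _, _, n, hF, hn, h4, ⟨e⟩⟩
  refine RowN.two fun e2 => ?_
  subst e2
  have h1 := not_dvd_card hF
  by_cases hexc : (n, Fintype.card F) ∈ ({(2, 4), (2, 9), (3, 2), (3, 4), (4, 2)} : Set (ℕ × ℕ))
  · simp only [Set.mem_insert_iff, Set.mem_singleton_iff, Prod.mk.injEq] at hexc
    obtain ⟨rfl, h⟩ : n = 2 ∧ Fintype.card F = 9 := by omega
    refine RowN.of_equiv e (TA.row_rc (TA.rc_nine h ?_))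
    have := e.symm.isSimpleGroup
    refine (IsSimpleGroup.eq_bot_or_eq_top_of_normal _ inferInstance).resolve_right fun h2 => hS ⟨⟨fun a b => e.injective ?_⟩⟩
    rw [map_mul, map_mul]
    exact mem_center_iff.1 (h2.ge (mem_top (e b))) (e a)
  obtain ⟨n, rfl⟩ : ∃ m, n = m + 1 := ⟨n - 1, by omega⟩
  refine RowN.of_equiv e (TA.row_SL (by exact_mod_cast hF) ?_ (S2086.result rfl _ hn h4 hexc))
  rcases hn.eq_or_lt with h | h
  · obtain rfl : n = 1 := by omega
    exact H259.NatMod.commutator_eq_top (h4 rfl)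
  · exact S0248.result _ h

/-- **the row of the unitary groups** -/
theorem rowPsu : For RowN CPsu := by
  rintro l hl S _ _ _ - ⟨F, _, _, n, q, hF, hq, hn, h4, ⟨e⟩⟩
  refine RowN.two fun e2 => RowN.of_equiv e ?_
  subst e2
  have h1 := not_dvd_card hF
  by_cases hexc : (n, q) ∈ ({(4, 2), (4, 3), (6, 2)} : Set (ℕ × ℕ))
  · simp only [Set.mem_insert_iff, Set.mem_singleton_iff, Prod.mk.injEq] at hexc
    rw [hq] at h1
    rcases hexc with ⟨rfl, rfl⟩ | ⟨rfl, rfl⟩ | ⟨rfl, rfl⟩
    · exact absurd (by norm_num) h1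
    · obtain ⟨e'⟩ := TwoF.XL.U43.iso hq
      exact RowN.of_equiv e' (TA.row_rc X.U4.r0.rc)
    · exact absurd (by norm_num) h1
  obtain ⟨n, rfl⟩ : ∃ m, n = m + 1 := ⟨n - 1, by omega⟩
  exact TA.row_SU (by exact_mod_cast hF) hq hn (LieClassical.HermPerfect.commutator_SU_eq_top hq hn h4)
    (S2089.result _ q hq hn h4 hexc)

end Cfsg.Agent.BZ.N2
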