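import Cfsg.Agent.KM.A.Lin
import Cfsg.Agent.BHZ.Nil.LocBasic
import Cfsg.Agent.BHZ.Nil.ClForm

/-!
# BZ / N2, type A : a non-abelian local datum contains a quaternion group with an automorphism of order three (helper11)

* `three` : the element of order three which normalises the quaternion group;
* `Fus` : the fusion condition; `comm_of_fus` : the local datum is abelian.
-/

set_option autoImplicit false
set_option linter.unusedSectionVars false
set_option maxHeartbeats 400000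

namespace Cfsg.Agent.BZ.N2.TA

open Cfsg Subgroup Matrix Cfsg.Agent.BHZ.Nil Cfsg.Agent.KM.A

section Ring

variable {F : Type*} [Field F] {A : Type*} [Ring A] [Algebra F A] {Γ : Subgroup Aˣ} {R : A → A → Prop}

theorem lin_inf (L : Lin F Γ R) (Y : Set Aˣ) :
    Lin F (Γ ⊓ centralizer Y) fun x x' => R x x' ∧ ∀ y ∈ Y, Commute (y : A) x ∧ Commute (y : A) x' := by
  have hs : ∀ (s t : F), ∀ y ∈ Y, Commute (y : A) (s • 1) ∧ Commute (y : A) (t • 1) := fun s t _ _ =>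
    ⟨(Commute.one_right _).smul_right s, (Commute.one_right _).smul_right t⟩
  have hc : ∀ c : Fˣ, sc F A c ∈ centralizer Y := fun c => mem_centralizer_iff.2 fun y _ => (sc_comm c y).eq.symm
  obtain ⟨α, β, h1, h2, h3⟩ := L.ab
  refine ⟨fun h h' => ⟨L.add h.1 h'.1, fun y hy => ⟨(h.2 y hy).1.add_right (h'.2 y hy).1, (h.2 y hy).2.add_right (h'.2 y hy).2⟩⟩,
    fun h h' => ⟨L.mul h.1 h'.1, fun y hy => ⟨(h.2 y hy).1.mul_right (h'.2 y hy).1, (h'.2 y hy).2.mul_right (h.2 y hy).2⟩⟩,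
    fun g hg => ⟨L.mem g hg.1, fun y hy => ?_⟩, fun g hg => ?_,
    ⟨L.half, hs _ _⟩, ⟨L.neg1, fun _ _ => ⟨Commute.neg_one_right _, Commute.neg_one_right _⟩⟩,
    ⟨α, β, h1, ⟨h2, hs _ _⟩, h3, hs _ _⟩, fun c hc' => ?_⟩
  · have h4 : Commute y g := mem_centralizer_iff.1 hg.2 y hy
    exact ⟨Commute.units_val h4, Commute.units_val h4.inv_right⟩
  · exact ⟨L.of g hg.1, mem_centralizer_iff.2 fun y hy => (Commute.units_of_val (hg.2 y hy).1).eq⟩
  · rcases L.tri c hc'.1 with ⟨r, h4, h5⟩ | ⟨a, h4, h5⟩ | ⟨l, h4, h5⟩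
    · exact Or.inl ⟨r, ⟨h4, hc r⟩, h5⟩
    · exact Or.inr (Or.inl ⟨a, h4, h5, hs _ _⟩)
    · exact Or.inr (Or.inr ⟨l, h4, h5, hs _ _⟩)

theorem q8_id2 {e a b : A} (aa : a * a = -e) (bb : b * b = -e) (ba : b * a = -(a * b)) (ee : e * e = e) (ea : e * a = a)
    (eb : e * b = b) (be : b * e = b) (ae : a * e = a) :
    (-e + a + b + a * b) * (-e + a + b + a * b) = (-e + -a + -b + -(a * b)) + (-e + -a + -b + -(a * b)) ∧
      (a + -b) * (-e + a + b + a * b) = (-e + -a + -b + -(a * b)) * (a + -b) ∧ (a + -b) * (a + -b) = -(e + e) := by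
  have aa' : ∀ x, a * (a * x) = -(e * x) := fun x => by rw [← mul_assoc, aa, neg_mul]
  have ba' : ∀ x, b * (a * x) = -(a * (b * x)) := fun x => by rw [← mul_assoc, ba, neg_mul, mul_assoc]
  have ea' : ∀ x, e * (a * x) = a * x := fun x => by rw [← mul_assoc, ea]
  refine ⟨?_, ?_, ?_⟩ <;>
  · simp only [mul_add, add_mul, mul_assoc, aa', ba', ea', aa, ba, bb, mul_neg, neg_mul, neg_neg, ee, ea, eb, ae, be]
    abel

/-- the element of order three -/
theorem three (h2 : (2 : F) ≠ 0) (L : Lin F Γ R) {a b z : Aˣ} (h : Tri F Γ a b z) (ha : a ^ 2 = z) (hb : b ^ 2 = z) :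
    ∃ x ∈ Γ, x ^ 3 = 1 ∧ x * a = a * b * x ∧ x * b = a * x ∧ (∀ y : Aˣ, Commute y a → Commute y b → Commute y x) ∧
      ∃ v : Aˣ, v * x = x⁻¹ * v := by
  obtain ⟨w, X, Y, e0, hw, hX, hY, e1, e2, e3, hYX, r0, r0', r1, r2⟩ := h.co h2 L
  have sq1 : ∀ {g : Aˣ} {Z : A}, g ^ 2 = z → Co w Z → (g : A) = Z + w →
      Z * Z = -(1 - w) ∧ ((g⁻¹ : Aˣ) : A) - w = -Z := by
    intro g Z g1 g2 g3
    have h1 := congrArg Units.val g1
    rw [Units.val_pow_eq_pow_val, g3, sq, g2.glue hw g2, e3, add_left_inj] at h1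
    refine ⟨h1, sub_eq_of_eq_add (Units.inv_eq_of_mul_eq_one_right ?_)⟩
    rw [g3, g2.glue hw g2.neg, mul_neg, h1, neg_neg, sub_add_cancel]
  obtain ⟨x1, x2⟩ := sq1 ha hX e1
  obtain ⟨y1, y2⟩ := sq1 hb hY e2
  rw [x2] at r1
  rw [y2] at r2
  have he := co_e hw
  obtain ⟨i1, i2, i3, i4⟩ := q8_id x1 y1 hYX he.mul_e hX.e_mul hY.e_mul hY.mul_e hX.mul_e
  obtain ⟨i5, i6, i7⟩ := q8_id2 x1 y1 hYX he.mul_e hX.e_mul hY.e_mul hY.mul_e hX.mul_e
  have r3 := L.mul r1 r2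
  rw [neg_mul_neg, hYX] at r3
  have r5 := L.add (L.smul L.half (L.add (L.add (L.add (L.neg r0') r1) r2) r3)) r0
  have hW : Co w (-(1 - w) + X + Y + X * Y) := ((he.neg.add hX).add hY).add (hX.mul hY)
  have hW' : Co w (-(1 - w) + -X + -Y + -(X * Y)) := ((he.neg.add hX.neg).add hY.neg).add (hX.mul hY).neg
  have hV : Co w (X + -Y) := hX.add hY.neg
  have hc : ∀ y : Aˣ, Commute y a → Commute y b → Commute (y : A) w ∧ Commute (y : A) (-(1 - w) + X + Y + X * Y) := by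
    intro y ya yb
    have c0 : Commute (y : A) w := e0 ▸ commute_av (Commute.units_val (ha ▸ ya.pow_right 2))
    have c1 : Commute (y : A) X := eq_sub_of_add_eq e1.symm ▸ (Commute.units_val ya).sub_right c0
    have c2 : Commute (y : A) Y := eq_sub_of_add_eq e2.symm ▸ (Commute.units_val yb).sub_right c0
    exact ⟨c0, ((((Commute.one_right _).sub_right c0).neg_right.add_right c1).add_right c2).add_right (c1.mul_right c2)⟩
  generalize -(1 - w) + X + Y + X * Y = W at i1 i2 i3 i4 i5 i6 r5 hW hc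
  generalize -(1 - w) + -X + -Y + -(X * Y) = W' at i3 i4 i5 i6 r5 hW'
  generalize X + -Y = V at i6 i7 hV
  have h4 : (2 : F)⁻¹ • (2 : F)⁻¹ • (1 - w + (1 - w) + (1 - w) + (1 - w)) + w = 1 := by
    rw [show 1 - w + (1 - w) + (1 - w) + (1 - w) = (2 : F) • (2 : F) • (1 - w) by module, smul_comm (2 : F)⁻¹ (2 : F),
      inv_smul_smul₀ h2, inv_smul_smul₀ h2, sub_add_cancel]
  have h5 : -((2 : F)⁻¹ • (V * V)) + w = 1 := by
    rw [i7, smul_neg, neg_neg, ← two_smul F, inv_smul_smul₀ h2, sub_add_cancel]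
  obtain ⟨u, uG, u1, u2⟩ := L.ex r5
    (by rw [(hW.smul _).glue hw (hW'.smul _), smul_mul_assoc, mul_smul_comm, i3, h4])
    (by rw [(hW'.smul _).glue hw (hW.smul _), smul_mul_assoc, mul_smul_comm, i4, h4])
  refine ⟨u, uG, ?_, Units.ext ?_, Units.ext ?_, fun y ya yb => Commute.units_of_val ?_,
    ⟨V + w, -((2 : F)⁻¹ • V) + w, by rw [hV.glue hw (hV.smul _).neg, mul_neg, mul_smul_comm, h5],
      by rw [(hV.smul _).neg.glue hw hV, neg_mul, smul_mul_assoc, h5]⟩, Units.ext ?_⟩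
  · rw [pow_succ, show u ^ 2 = u⁻¹ from Units.ext (by
      rw [sq, Units.val_mul, u1, u2, (hW.smul _).glue hw (hW.smul _), smul_mul_assoc, mul_smul_comm, i5, ← two_smul F,
        inv_smul_smul₀ h2]), inv_mul_cancel]
  · rw [Units.val_mul, Units.val_mul, Units.val_mul, u1, e1, e2, (hW.smul _).glue hw hX, hX.glue hw hY,
      (hX.mul hY).glue hw (hW.smul _), smul_mul_assoc, mul_smul_comm, i1]
  · rw [Units.val_mul, Units.val_mul, u1, e1, e2, (hW.smul _).glue hw hY, hX.glue hw (hW.smul _), smul_mul_assoc,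
      mul_smul_comm, i2]
  · rw [u1]
    exact ((hc y ya yb).2.smul_right _).add_right (hc y ya yb).1
  · rw [Units.val_mul, Units.val_mul, u1, u2]
    change (V + w) * _ = _ * (V + w)
    rw [hV.glue hw (hW.smul _), (hW'.smul _).glue hw hV, smul_mul_assoc, mul_smul_comm, i6]

variable [Finite A]

/-- the quaternion group -/
theorem exists_q8 (h2 : (2 : F) ≠ 0) (hΓ : CutClosed 2 F Γ) (L : Lin F Γ R) {a b c : Aˣ} (aG : a ∈ Γ) (bG : b ∈ Γ)
    (ca : Commute c a) (cb : Commute c b) (hc : c ^ 2 = 1) (hc1 : c ≠ 1) (hab : a * b = c * b * a) {n : ℕ}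
    (ha : a ^ 2 ^ n = 1) (hb : b ^ 2 ^ n = 1) : ∃ i j z : Aˣ, Tri F Γ i j z ∧ i ^ 2 = z ∧ j ^ 2 = z := by
  have := Fact.mk Nat.prime_two
  have hαb : Commute (a ^ 2) b := by
    have := pow_mul_of_rel ca hab 2
    rwa [hc, one_mul] at this
  have hw := av_idem h2 (val_pow_one hc)
  have hpp : ∀ {g : Aˣ}, g ^ 2 ^ n = 1 → ((g ^ 2 : Aˣ) : A) ^ 2 ^ n = 1 := fun h =>
    val_pow_one (by rw [← pow_mul, mul_comm, pow_mul, h, one_pow])
  have hce : ∀ {g : Aˣ}, Commute c g → Commute ((g ^ 2 : Aˣ) : A) (1 - av F 2 (c : A)) := fun h =>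
    (Commute.one_right _).sub_right (commute_av (Commute.units_val (h.symm.pow_left 2)))
  have he0 : 1 - av F 2 (c : A) ≠ 0 := by
    intro h
    apply hc1
    apply Units.ext
    have h1 := mul_av (F := F) (val_pow_one hc)
    rwa [← sub_eq_zero.1 h, mul_one] at h1
  rcases exists_av_ne_zero (p := 2) (F := F) (by exact_mod_cast h2) (hpp ha) (hpp hb) (Commute.units_val (hαb.pow_right 2))
    (hce ca) (hce cb) (IsIdempotentElem.one_sub hw) he0 with ⟨j, hj⟩ | ⟨j, hj⟩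
  · exact exists_q8_aux h2 hΓ L aG bG ca cb hc hab ha hb (j := j)
      (by rw [Units.val_mul, Units.val_pow_eq_pow_val _ j]; exact hj)
  · exact exists_q8_aux h2 hΓ L bG aG cb.inv_left ca.inv_left
      (by rw [inv_pow, hc, inv_one]) (rel_swap hab) hb ha (j := j)
      (by rw [av_inv h2 hc, Units.val_mul, Units.val_pow_eq_pow_val _ j]; exact hj)

end Ring

/-- the fusion condition for the conjugates of the subgroups of `E` -/
def Fus {Y : Type} [Group Y] (E : Subgroup Y) : Prop :=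
  ∀ (Q : Subgroup Y) (g : Y), IsPGroup 2 Q → Q.map (MulAut.conj g).toMonoidHom ≤ E → ∀ x ∈ normalizer (Q : Set Y),
    ¬ 2 ∣ orderOf x → (∀ y ∈ centralizer (Q : Set Y), Commute y x) → x ∈ centralizer (Q : Set Y)

/-- **the local datum is abelian** -/
theorem comm_of_fus {F : Type} [Field F] [Fintype F] {n : ℕ} (h2 : (2 : F) ≠ 0) (Γ : Subgroup (GL (Fin n) F))
    (hΓ : CutClosed 2 F Γ) {R : Matrix (Fin n) (Fin n) F → Matrix (Fin n) (Fin n) F → Prop} (L : Lin F Γ R) {Y : Type}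
    [Group Y] [Finite Y] (ι : Y →* GL (Fin n) F) (hι : Function.Injective ι)
    (hr : ι.range = Γ ⊓ GeneralLinearGroup.det.ker) {E : Subgroup Y} (hL : Loc 2 Y E) (hf : Fus E) : IsMulCommutative E := by
  have := Fact.mk Nat.prime_two
  by_contra hn
  obtain ⟨a, b, c, hcz, hc1, hc2, hab⟩ := exists_triple hL.pg hn
  obtain ⟨m, hm⟩ := hL.pg.exists_card_eq
  have hpw : ∀ d : E, ι d ^ 2 ^ m = 1 := fun d => by
    rw [← map_pow, ← Subgroup.coe_pow, ← hm, pow_card_eq_one', Subgroup.coe_one, map_one]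
  have h1 : ∀ y, ι y ∈ Γ ⊓ GeneralLinearGroup.det.ker := fun y => hr ▸ ⟨y, rfl⟩
  have h3 : ∀ y, ι y ∈ Γ ⊓ centralizer (ι '' {y | y ∈ centralizer (E : Set Y) ∧ ¬ 2 ∣ orderOf y}) ↔ y ∈ KK 2 E := fun y => by
    rw [mem_KK_iff]
    refine ⟨fun h s h4 h5 => hι ?_, fun h => ⟨(h1 y).1, mem_centralizer_iff.2 ?_⟩⟩
    · rw [map_mul, map_mul]
      exact mem_centralizer_iff.1 h.2 _ ⟨s, ⟨h4, h5⟩, rfl⟩
    · rintro _ ⟨s, hs, rfl⟩
      rw [← map_mul, ← map_mul, h s hs.1 hs.2]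
  have h4 : ∀ d : E, Commute (ι c) (ι d) := fun d =>
    Commute.map (congrArg Subtype.val (mem_center_iff.1 hcz d).symm : (c : Y) * d = d * c) ι
  obtain ⟨i, j, z, h, hi, hj⟩ := exists_q8 h2 (hΓ.inf_centralizer _) (lin_inf L _) ((h3 a).2 (self_le_KK E a.2))
    ((h3 b).2 (self_le_KK E b.2)) (h4 a) (h4 b) (by rw [← map_pow, ← Subgroup.coe_pow, hc2, Subgroup.coe_one, map_one])
    (fun e => hc1 (Subtype.ext (hι (e.trans (map_one ι).symm))))
    (by rw [← map_mul, ← map_mul, ← map_mul]; exact congrArg (fun d : E => ι d) hab) (hpw a) (hpw b)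
  obtain ⟨x, xG, x3, xi, xj, xc, v, hv⟩ := three h2 (lin_inf L _) h hi hj
  have h5 : ∀ {G : Subgroup (GL (Fin n) F)} {g}, g ∈ ⁅G, G⁆ → g ∈ GeneralLinearGroup.det.ker := fun hg =>
    commutator_le.2 (fun a _ b _ => by
      rw [MonoidHom.mem_ker, map_commutatorElement, commutatorElement_eq_one_iff_mul_comm, mul_comm]) hg
  obtain ⟨q1, q2⟩ := h.q8 h2 (lin_inf L _) hi hj
  obtain ⟨i, rfl⟩ : i ∈ ι.range := hr ▸ ⟨h.aG.1, h5 q1⟩
  obtain ⟨j, rfl⟩ : j ∈ ι.range := hr ▸ ⟨h.bG.1, h5 q2⟩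
  obtain ⟨x, rfl⟩ : x ∈ ι.range := hr ▸ ⟨xG.1, by
    have h6 := congrArg GeneralLinearGroup.det hv
    have h7 := congrArg GeneralLinearGroup.det x3
    rw [map_mul, map_mul, map_inv, mul_comm, mul_left_inj] at h6
    rw [map_pow, map_one, pow_succ, sq, eq_inv_iff_mul_eq_one.1 h6, one_mul] at h7
    exact h7⟩
  have h6 : IsPGroup 2 (zpowers i ⊔ zpowers j : Subgroup Y) :=
    ((h.pg hi hj).comap_of_injective ι hι).to_le (sup_le (zpowers_le.2 (mem_sup_left (mem_zpowers _)))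
      (zpowers_le.2 (mem_sup_right (mem_zpowers _))))
  obtain ⟨g, -, hg⟩ := hL.exists_conj_le h6 (sup_le (zpowers_le.2 ((h3 i).1 h.aG)) (zpowers_le.2 ((h3 j).1 h.bG)))
  have mi : i ∈ zpowers i ⊔ zpowers j := mem_sup_left (mem_zpowers i)
  have mj : j ∈ zpowers i ⊔ zpowers j := mem_sup_right (mem_zpowers j)
  have e1 : x * i = i * j * x := hι (by simpa only [map_mul] using xi)
  have e2 : x * j = i * x := hι (by simpa only [map_mul] using xj)
  have h7 := hf _ g h6 hg x (mem_normalizer_fintype fun s hs => (show zpowers i ⊔ zpowers j ≤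
      (zpowers i ⊔ zpowers j).comap (MulAut.conj x).toMonoidHom from sup_le (zpowers_le.2 (by
        change x * i * x⁻¹ ∈ zpowers i ⊔ zpowers j
        rw [e1, mul_inv_cancel_right]
        exact mul_mem mi mj)) (zpowers_le.2 (by
        change x * j * x⁻¹ ∈ zpowers i ⊔ zpowers j
        rwa [e2, mul_inv_cancel_right]))) hs)
    (fun e => by
      have := e.trans (orderOf_dvd_of_pow_eq_one (hι (by rw [map_pow, x3, map_one]) : x ^ 3 = 1))
      omega)
    fun y hy => hι (by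
      rw [map_mul, map_mul]
      exact xc _ (Commute.map (mem_centralizer_iff.1 hy i mi : Commute i y).symm ι)
        (Commute.map (mem_centralizer_iff.1 hy j mj : Commute j y).symm ι))
  have h8 := h.rel
  rw [← mem_centralizer_iff.1 h7 j mj, mul_left_inj] at e2
  rw [e2, mul_assoc] at h8
  exact h.z1 (mul_eq_right.1 h8.symm)

end Cfsg.Agent.BZ.N2.TA
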