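import Cfsg.Agent.BZ.N2.Defs
import Cfsg.Agent.BZ.Alt.MainT
import Cfsg.Agent.H107.AltBlk.Exc
import Cfsg.Agent.S0892
import Cfsg.Agent.S2116

/-!
# BZ / N2 : the alternating groups (helper61)

`rowAlt_of : Tool → For RowN CAlt`.
-/

set_option autoImplicit false
set_option linter.unusedSectionVars false
set_option maxHeartbeats 400000

namespace Cfsg.Agent.BZ.N2

open Cfsg Subgroup Cfsg.Agent.KM Cfsg.Agent.H614 Cfsg.Agent.BZ.Alt Cfsg.Agent.Characters.Core

namespace Al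

/-- the `2`-blocks of the alternating groups with a defect group which is not cyclic -/
theorem altC {α : Type} [Fintype α] [DecidableEq α] [Nontrivial α] {M : Ideal AlgInt} (hM : IsPModular 2 M)
    {B : Set (IrrCharacter (alternatingGroup α))} (hB : IsPBlock M B) {D : Subgroup (alternatingGroup α)}
    (hD : IsDefectGroup 2 M B D) (hna : ¬ IsCyclic D) : ¬ EqD 2 B := by
  classical
  have hp := Fact.mk Nat.prime_two
  have hMp : M.IsPrime := hM.2.1.isPrime
  have hN2 : (alternatingGroup α).index = 2 := alternatingGroup.index_eq_two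
  obtain ⟨BB, P, hBB, hP, hDP, -, hdown⟩ := exists_cover hM (alternatingGroup α) hB hD
  obtain ⟨χ, hχ⟩ := Blocks.Basic.isPBlock_nonempty hBB
  obtain ⟨β₀, hβ₀, hs, hχβ⟩ := irr_eq (α := α) (m := Fintype.card α + 2) (by omega) χ.2
  obtain ⟨w, hw⟩ : ∃ w, ∑ j, β₀ j / 2 = w + npairs 2 β₀ :=
    ⟨_, (Nat.sub_add_cancel (npairs_le two_pos hβ₀.injective)).symm⟩
  obtain ⟨κ, hκ, hκc, hκw, hpw, hκs, -⟩ := exists_core two_pos hβ₀.injective hw hs
  obtain ⟨z, hz, hz1, -, hPc⟩ := defect_structure hM (by omega) hBB hβ₀ hs hχ hχβ hw hP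
  have hcardN : Nat.card (Equiv.Perm α) = 2 * Nat.card (alternatingGroup α) := by
    rw [← Subgroup.card_mul_index (alternatingGroup α), hN2, mul_comm]
  let e : D ≃* (P ⊓ alternatingGroup α : Subgroup (Equiv.Perm α)) :=
    (MulEquiv.subgroupCongr hDP).trans (Subgroup.subgroupOfEquivOfLe inf_le_right)
  have hcardD : Nat.card D = Nat.card (P ⊓ alternatingGroup α : Subgroup (Equiv.Perm α)) :=
    Nat.card_congr e.toEquiv
  have hw2 : 2 ≤ w := by
    by_contra hlt
    refine hna (isCyclic_of_card_dvd_prime (p := 2) ?_)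
    rw [hcardD]
    refine (Subgroup.card_dvd_of_le inf_le_left).trans ?_
    rw [hPc]
    have h3 : w = 0 ∨ w = 1 := by omega
    rcases h3 with rfl | rfl <;> simp
  obtain ⟨w, rfl⟩ : ∃ w', w = w' + 2 := ⟨w - 2, by omega⟩
  obtain ⟨β, γ, hβ, hγ, hβc, hγc, hβs, hγs, vβ, vγ, hlt, -⟩ := exists_two_rows hκ hκw hpw hκs le_rfl
  have hmem : ∀ γ : Fin (Fintype.card α + 2) → ℕ, ∀ hγ : StrictMono γ,
      ∀ hsγ : ∑ i, γ i = Fintype.card α + ∑ i : Fin (Fintype.card α + 2), (i : ℕ),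
      SameCol 2 κ γ → (⟨ch α γ, isIrr_ch hγ hsγ⟩ : IrrCharacter (Equiv.Perm α)) ∈ BB := by
    intro γ hγ hsγ hc
    refine Blocks.Basic.isPBlock_mem_of_sameBlock hBB hχ ?_
    rw [hχβ]
    exact sameBlock_of_sameCol hM hβ₀ hγ hs hsγ (hκc.trans hc)
  obtain ⟨φ, hφ, hφi⟩ := hdown _ (hmem β hβ hβs hβc)
  obtain ⟨ψ, hψ, hψi⟩ := hdown _ (hmem γ hγ hγs hγc)
  have dφ := degree_two (alternatingGroup α) hN2 (isIrr_ch hβ hβs) φ.2 hφi
  have dψ := degree_two (alternatingGroup α) hN2 (isIrr_ch hγ hγs) ψ.2 hψi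
  rw [charDegree_ch hβ hβs] at dφ
  rw [charDegree_ch hγ hγs] at dψ
  have cN := card_perm_fact (α := α) (p := 2)
  rw [hcardN, Nat.factorization_mul two_ne_zero Nat.card_pos.ne', Finsupp.add_apply] at cN
  rw [← Nat.factorization_def _ Nat.prime_two] at vβ vγ
  have zφ := (charDegree_pos φ.2).1
  have zψ := (charDegree_pos ψ.2).1
  have hsplit : ∀ a : ℕ, 0 < a → (2 * a).factorization 2 = (2 : ℕ).factorization 2 + a.factorization 2 := fun a ha => by
    rw [Nat.factorization_mul two_ne_zero ha.ne', Finsupp.add_apply]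
  intro H
  rw [Nat.Prime.factorization_self Nat.prime_two] at cN hsplit
  obtain ⟨c, hc, hcs⟩ := exists_odd_cyc hz (by omega)
  have h1 := card_inf_alternating (hz1 hc) hcs
  have hDc : Nat.card D = 2 ^ (w + 1 + padicValNat 2 (w + 2).factorial) := by
    rw [hPc, show w + 2 + padicValNat 2 (w + 2).factorial = w + 1 + padicValNat 2 (w + 2).factorial + 1 by ring,
      pow_succ] at h1
    rw [hcardD]
    omega
  have bφ := val_card_le hM hB hD hDc hφ
  have bψ := val_card_le hM hB hD hDc hψ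
  have eφ : (FM (Multiset.replicate (Fintype.card α) 1) β).natAbs = charDegree (φ : alternatingGroup α → ℂ) := by
    refine dφ.resolve_right fun h => ?_
    rw [h.1, hsplit _ zφ] at vβ
    omega
  have eψ : (FM (Multiset.replicate (Fintype.card α) 1) γ).natAbs = charDegree (ψ : alternatingGroup α → ℂ) := by
    refine dψ.resolve_right fun h => ?_
    rw [h.1, hsplit _ zψ] at vγ
    omega
  rw [eφ] at vβ hlt
  rw [eψ] at vγ hlt
  have h2 := H φ hφ ψ hψ (height_eq hM hB hD hDc hφ (by omega)) (height_eq hM hB hD hDc hψ (by omega))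
  omega

theorem cv_one {n : ℕ} (hn : 5 ≤ n) : Cv 1 (alternatingGroup (Fin n)) := fun K _ _ σ M B D H h => by
  have : Nontrivial (Fin n) := Fin.nontrivial_iff_two_le.2 (by omega)
  let f := MulEquiv.ofBijective σ ⟨by rw [← MonoidHom.ker_eq_bot_iff, H.ker, ← card_eq_one, h], H.surj⟩
  exact altC H.hM (H649.isPBlock_blkMap (e := f) H.hB) (H649.isDefectGroup_blkMap H.hD)
    (fun h1 => H.nc ((f.subgroupMap D).isCyclic.2 h1)) (eqD_map f H.eqd)

/-- a multiplier of order at most two -/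
theorem mult {S : Type} [Group S] [Finite S]
    (h : ∀ (Γ : Type) [Group Γ] [Finite Γ] (σ : Γ →* S), IsStemExtension σ → Nat.card σ.ker ≤ 2) :
    HasCyclicSchurMultiplier S 1 ∨ HasCyclicSchurMultiplier S 2 := by
  have key : ∀ (n : ℕ) [NeZero n] (A : Type) [Group A] [Finite A], Nat.card A ∣ 2 → Nat.card A ∣ n →
      ∃ π : Multiplicative (ZMod n) →* A, Function.Surjective π := fun n _ A _ _ h1 h2 => by
    have := Fact.mk Nat.prime_two
    have : IsCyclic A := isCyclic_of_card_dvd_prime h1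
    obtain ⟨g, hg⟩ := IsCyclic.exists_generator (α := A)
    refine ⟨(ZMod.lift n ⟨zmultiplesHom (Additive A) (Additive.ofMul g), ?_⟩).toMultiplicativeLeft, fun a => ?_⟩
    · show Additive.ofMul (g ^ (n : ℤ)) = 0
      rw [zpow_natCast, orderOf_dvd_iff_pow_eq_one.1 ((orderOf_dvd_natCard g).trans h2), ofMul_one]
    · obtain ⟨k, rfl⟩ := hg a
      exact ⟨Multiplicative.ofAdd (k : ZMod n), by simp⟩
  have dvd : ∀ (Γ : Type) [Group Γ] [Finite Γ] (σ : Γ →* S), IsStemExtension σ →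
      Nat.card σ.ker = 1 ∨ Nat.card σ.ker = 2 := fun Γ _ _ σ hσ => by
    have h1 := h Γ σ hσ
    have h2 : 0 < Nat.card σ.ker := Nat.card_pos
    omega
  by_cases h2 : ∃ (Γ : Type) (_ : Group Γ) (_ : Finite Γ) (σ : Γ →* S), IsStemExtension σ ∧ Nat.card σ.ker = 2
  · obtain ⟨Γ, _, _, σ, h3, h4⟩ := h2
    have := Fact.mk Nat.prime_two
    exact .inr ⟨⟨Γ, _, ‹_›, σ, h3, ⟨mulEquivOfPrimeCardEq h4 (by simp)⟩⟩, fun Γ _ _ σ hσ =>
      key 2 _ ((dvd Γ σ hσ).elim (fun e => e ▸ one_dvd 2) fun e => e.dvd)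
        ((dvd Γ σ hσ).elim (fun e => e ▸ one_dvd 2) fun e => e.dvd)⟩
  · refine .inl ⟨⟨S, _, ‹_›, MonoidHom.id S, ⟨Function.surjective_id, by simp, by simp⟩, ?_⟩, fun Γ _ _ σ hσ => ?_⟩
    · have : Unique (MonoidHom.id S).ker := by rw [MonoidHom.ker_id]; infer_instance
      exact ⟨MulEquiv.ofUnique⟩
    · have h3 := (dvd Γ σ hσ).resolve_right fun e => h2 ⟨Γ, _, ‹_›, σ, hσ, e⟩
      exact key 1 _ (h3 ▸ one_dvd 2) h3.dvd

theorem ord_of_inv {n : ℕ} (hn : n = 6 ∨ n = 7) {t g : alternatingGroup (Fin n)} (ht : orderOf t = 2)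
    (h : t * g = g * t) : orderOf g ∣ (n - 4).factorial * 8 := by
  rw [← orderOf_coe] at ht ⊢
  obtain ⟨k, hk⟩ := Equiv.Perm.cycleType_prime_order (ht ▸ Nat.prime_two)
  have h1 := (t : Equiv.Perm (Fin n)).sum_cycleType.le.trans (Finset.card_le_univ _)
  rw [ht] at hk
  rw [hk, Multiset.sum_replicate, Fintype.card_fin, smul_eq_mul] at h1
  have h2 := Equiv.Perm.mem_alternatingGroup.1 t.2
  rw [Equiv.Perm.sign_of_cycleType, hk, Multiset.sum_replicate, Multiset.card_replicate] at h2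
  obtain rfl : k = 1 := by
    have h3 : k ≤ 2 := by omega
    interval_cases k
    · exact absurd h2 (by decide)
    · rfl
    · exact absurd h2 (by decide)
  have h3 := (centralizer {(t : Equiv.Perm (Fin n))}).orderOf_dvd_natCard
    (mem_centralizer_singleton_iff.2 (congrArg Subtype.val h.symm))
  rw [Equiv.Perm.nat_card_centralizer, hk, Fintype.card_fin, mul_assoc] at h3
  exact h3

theorem nab {S : Type} [Group S] [Finite S] (h : Dih S) (P : Sylow 2 S) : ¬ IsMulCommutative (P : Subgroup S) := by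
  have := Fact.mk Nat.prime_two
  obtain ⟨a, b, ha, hb, h4, h2, -⟩ := h
  intro hc
  have hau : a * (a * b) * a = (a * b)⁻¹ := by
    rw [← mul_assoc, ha, one_mul, mul_inv_rev, inv_eq_of_mul_eq_one_right ha, inv_eq_of_mul_eq_one_right hb]
  obtain ⟨f, f1, f2⟩ := SporadicB.DihedralLift.exists_dihedral_hom 4 ha h4 hau
  obtain ⟨Q, hQ⟩ := ((IsPGroup.of_card (p := 2) (n := 3) (G := DihedralGroup 4)
    (by rw [DihedralGroup.nat_card]; rfl)).of_surjective _ f.rangeRestrict_surjective).exists_le_sylow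
  have h5 : a * b ∈ Q := hQ ⟨_, (f1 1).trans (zpow_one _)⟩
  have h6 : a ∈ Q := hQ ⟨_, (f2 0).trans (by rw [zpow_zero, mul_one])⟩
  have h7 := congrArg (fun x => ((P.equiv Q x : Q) : S))
    (hc.is_comm.comm ((P.equiv Q).symm ⟨_, h6⟩) ((P.equiv Q).symm ⟨_, h5⟩))
  simp only [map_mul, MulEquiv.apply_symm_apply, Subgroup.coe_mul] at h7
  rw [h7, mul_assoc, ha, mul_one, eq_inv_iff_mul_eq_one] at hau
  exact h2 ((pow_two _).trans hau)

theorem cv_three (T : Tool) {n : ℕ} (hn : n = 6 ∨ n = 7) : Cv 3 (alternatingGroup (Fin n)) := by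
  have := Fact.mk Nat.prime_two
  refine T.three _ (fun h => by have := h.trans (H107.AltBlk.card_alt_dvd hn); omega) (nab (dih_alt hn)) fun y h1 h2 h3 => ?_
  obtain ⟨s, hs⟩ := exists_prime_orderOf_dvd_card' 2 (Dvd.dvd.trans (by norm_num) h3)
  rw [← orderOf_coe] at hs
  have h4 : orderOf y ∣ 3 * 2 ^ 4 :=
    (ord_of_inv hn hs (mem_centralizer_singleton_iff.1 s.2)).trans (by rcases hn with rfl | rfl <;> decide)
  exact ((Nat.dvd_prime Nat.prime_three).1 ((((Nat.Prime.coprime_iff_not_dvd Nat.prime_two).2 h1).symm.pow_right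
    4).dvd_of_dvd_mul_right h4)).resolve_left fun e => h2 (orderOf_eq_one_iff.1 e)

end Al

/-- **the alternating groups** -/
theorem rowAlt_of (T : Tool) : For RowN CAlt := by
  rintro p _ S _ _ _ hS ⟨n, hn, ⟨e⟩⟩
  refine RowN.two fun _ => RowN.of_equiv e ?_
  have hZ : center (alternatingGroup (Fin n)) = ⊥ := by
    have := e.symm.isSimpleGroup
    refine (IsSimpleGroup.eq_bot_or_eq_top_of_normal _ inferInstance).resolve_right fun h => hS ⟨⟨fun a b => e.injective ?_⟩⟩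
    rw [map_mul, map_mul]
    exact mem_center_iff.1 (h.ge (mem_top _)) _
  have key : ∀ m : ℕ, [NeZero m] → ∀ a : Multiplicative (ZMod m), a ^ m = 1 := fun m _ a => by
    rw [← pow_card_eq_one' (x := a)]
    simp
  by_cases h67 : n = 6 ∨ n = 7
  · refine T.cv _ hZ (S2116.result n h67) (key 6) fun k h1 h2 => ?_
    have h3 : k ≤ 6 := Nat.le_of_dvd (by norm_num) h1
    have h4 : k = 1 ∨ k = 3 := by interval_cases k <;> omega
    rcases h4 with rfl | rfl
    exacts [Al.cv_one hn, Al.cv_three T h67]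
  · push Not at h67
    rcases Al.mult fun Γ _ _ σ hσ => S0892.result n (by omega) h67.1 h67.2 σ.ker hσ.2.1 hσ.2.2
      (QuotientGroup.quotientKerEquivOfSurjective σ hσ.1) with h | h
    · exact T.cv _ hZ h (key 1) fun k h1 _ => Nat.dvd_one.1 h1 ▸ Al.cv_one hn
    · exact T.cv _ hZ h (key 2) fun k h1 h2 =>
        ((Nat.dvd_prime Nat.prime_two).1 h1).resolve_right (fun e => h2 e.symm.dvd) ▸ Al.cv_one hn

end Cfsg.Agent.BZ.N2
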