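import Cfsg.Agent.BZ.N2.Defs
import Cfsg.Agent.S2092
import Cfsg.Agent.S2094
import Cfsg.Agent.S2096
import Cfsg.Agent.S2097
import Cfsg.Agent.S2099
import Cfsg.Agent.S2106

/-!
# BZ / N2 : the symplectic and orthogonal groups and `E₇` from the strong rows (helper36)

* `rowCl`.
-/

set_option autoImplicit false

namespace Cfsg.Agent.BZ.N2

open Cfsg Cfsg.Lie Subgroup Cfsg.Agent.KM

namespace ClR

theorem ch (F : Type) [Field F] [Fintype F] (h : ((2 : ℕ) : F) ≠ 0) :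
    ∃ (r : ℕ) (_ : CharP F r), r ≠ 2 ∧ Fintype.card F ≠ 2 ∧ ∀ n, n ∣ 4 → ¬ r ∣ n := by
  obtain ⟨r, hc⟩ := CharP.exists F
  obtain ⟨f, hr, hq⟩ := FiniteField.card F r
  have h2 : r ≠ 2 := fun e => h (e ▸ CharP.cast_eq_zero F r)
  have h3 : ¬ r ∣ 2 := fun e => h2 ((Nat.prime_dvd_prime_iff_eq hr Nat.prime_two).1 e)
  exact ⟨r, hc, h2, fun e => h3 (e ▸ hq ▸ dvd_pow_self r f.pos.ne'), fun n hn e => h3 (hr.dvd_of_dvd_pow (n := 2) (e.trans hn))⟩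

theorem cyc (T : Tool) {S : Type} [Group S] {r n : ℕ} (hA : HasCyclicSchurMultiplier S n) (h : ¬ r ∣ n) (s : RowS r S) : RowN 2 S :=
  T.st S r hA (by rwa [Nat.card_congr Multiplicative.toAdd, Nat.card_zmod]) s

theorem two (n : ℕ) : Nat.gcd 2 n ∣ 4 := (Nat.gcd_dvd_left 2 n).trans (by decide)

end ClR

open ClR in
/-- **the field `Bx.cl`** -/
theorem rowCl (T : Tool) (h73 : BoxO73) (s : St) :
    For RowN CPsp ∧ For RowN COdd ∧ For RowN CPlus ∧ For RowN CMinus ∧ For RowN CE7 := by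
  refine ⟨?_, ?_, ?_, ?_, ?_⟩
  · rintro p _ S _ _ _ - ⟨F, _, _, m, h, hm, h1, ⟨e⟩⟩
    refine RowN.two fun hp => RowN.of_equiv e ?_
    obtain ⟨r, _, k1, k2, k3⟩ := ch F (hp ▸ h)
    exact cyc T (S2092.result rfl m hm h1 fun a => k2 a.2) (k3 _ (two _)) (s.psp r F m k1 hm)
  · rintro p _ S _ _ _ - ⟨F, _, _, m, h, hm, h1, ⟨e⟩⟩
    refine RowN.two fun hp => RowN.of_equiv e ?_
    obtain ⟨r, _, k1, k2, k3⟩ := ch F (hp ▸ h)
    by_cases h5 : m = 3 ∧ Fintype.card F = 3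
    · obtain ⟨rfl, h5⟩ := h5
      exact h73 F h5
    exact cyc T (S2094.result rfl h1 m hm h5) (k3 _ (by decide)) (s.oodd r F m k1 hm)
  · rintro p _ S _ _ _ - ⟨F, _, _, m, h, hm, ⟨e⟩⟩
    refine RowN.two fun hp => RowN.of_equiv e ?_
    obtain ⟨r, _, k1, k2, k3⟩ := ch F (hp ▸ h)
    rcases Nat.even_or_odd m with h1 | h1
    · refine T.st _ r (S2097.result rfl m hm h1 fun a => k2 a.2) (k3 _ ?_) (s.oplus r F m k1 hm)
      rw [Nat.card_congr Multiplicative.toAdd, Nat.card_prod, Nat.card_zmod]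
      exact Nat.mul_dvd_mul (Nat.gcd_dvd_left 2 _) (Nat.gcd_dvd_left 2 _)
    · exact cyc T (S2096.result rfl m (by obtain ⟨j, rfl⟩ := h1; omega) h1) (k3 _ (Nat.gcd_dvd_left 4 _)) (s.oplus r F m k1 hm)
  · rintro p _ S _ _ _ - ⟨F, _, _, m, a, b, h, hm, h1, ⟨e⟩⟩
    refine RowN.two fun hp => RowN.of_equiv e ?_
    obtain ⟨r, _, k1, k2, k3⟩ := ch F (hp ▸ h)
    exact cyc T (S2099.result rfl m hm a b h1) (k3 _ (Nat.gcd_dvd_left 4 _)) (s.ominus r F m a b k1 hm h1)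
  · rintro p _ S _ _ _ - ⟨F, _, _, h, ⟨e⟩⟩
    refine RowN.two fun hp => RowN.of_equiv e ?_
    obtain ⟨r, _, k1, k2, k3⟩ := ch F (hp ▸ h)
    exact cyc T (S2106.result rfl) (k3 _ (two _)) (s.e7 r F k1)

end Cfsg.Agent.BZ.N2
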