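import Cfsg.Agent.BZ.Red2
import Cfsg.Agent.BZ.T.Count
import Cfsg.Agent.BZ.L.Cl.Tr
import Cfsg.Agent.BHZ.Nil.SylCase
import Cfsg.Agent.BHZ.Nil.Block
import Cfsg.Agent.TAB.Use.Defs

/-!
# BZ / N2 : nilpotent `2`-blocks, the central extension step; definitions and boxes (helper27)

* `Hn`, `RowN` : the row; `boxN2_of : All RowN → BoxN2'`;
* `Hy`, `Cv n S` : no nilpotent block with an abelian non-cyclic defect group in a cover with a centre of odd order `n`;
* `RowS r S` : the strong row for the covers with a centre of order prime to `r`; `St`;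
* `Bx` : the list of the boxes.
-/

set_option autoImplicit false
set_option linter.unusedSectionVars false

namespace Cfsg.Agent.BZ.N2

open Cfsg Cfsg.Lie Subgroup Cfsg.Agent.KM

/-- a nilpotent block of a cover of `S`; the image of the defect group is abelian -/
structure Hn (M : Ideal AlgInt) {K : Type} [Group K] (B : Set (IrrCharacter K)) (D : Subgroup K) {S : Type} [Group S]
    (σ : K →* S) : Prop where
  hM : IsPModular 2 M
  hB : IsPBlock M B
  hD : IsDefectGroup 2 M B D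
  nil : IsNilpotentBlock 2 M B
  eqd : EqD 2 B
  ab : BK.Ab (D.map σ)
  qs : IsQuasisimple K
  surj : Function.Surjective σ
  ker : σ.ker = center K

/-- the row -/
def RowN : Prd := fun p S _ => p = 2 →
  ∀ (K : Type) [Group K] [Finite K] (σ : K →* S) (M : Ideal AlgInt) (B : Set (IrrCharacter K)) (D : Subgroup K),
    Hn M B D σ → BK.Ab D

/-- the centre has odd order, the block is faithful, the defect group is not cyclic -/
structure Hy (M : Ideal AlgInt) {K : Type} [Group K] (B : Set (IrrCharacter K)) (D : Subgroup K) {S : Type} [Group S]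
    (σ : K →* S) : Prop extends Hn M B D σ where
  abD : BK.Ab D
  nc : ¬ IsCyclic D
  zp : ¬ 2 ∣ Nat.card (center K)
  cyc : IsCyclic (center K)
  faith : ∀ χ ∈ B, ∀ z ∈ center K, (χ : K → ℂ) z = (χ : K → ℂ) 1 → z = 1

/-- the covers with a centre of order `n` -/
def Cv (n : ℕ) (S : Type) [Group S] : Prop :=
  ∀ (K : Type) [Group K] [Finite K] (σ : K →* S) (M : Ideal AlgInt) (B : Set (IrrCharacter K)) (D : Subgroup K),
    Hy M B D σ → Nat.card (center K) ≠ n

/-- the strong row : equal degrees force the defect group to be abelian in the cover -/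
def RowS (r : ℕ) (S : Type) [Group S] : Prop :=
  ∀ (K : Type) [Group K] [Finite K] (σ : K →* S) (M : Ideal AlgInt), IsQuasisimple K → Function.Surjective σ →
    σ.ker = center K → ¬ r ∣ Nat.card (center K) → IsPModular 2 M → Cl.BX XT 2 M K

/-- [ST] the strong rows, odd characteristic `r` -/
structure St : Prop where
  psp : ∀ (r : ℕ) (F : Type) [Field F] [Fintype F] [CharP F r] (m : ℕ), r ≠ 2 → 2 ≤ m → RowS r (PSp m F)
  oodd : ∀ (r : ℕ) (F : Type) [Field F] [Fintype F] [CharP F r] (m : ℕ), r ≠ 2 → 3 ≤ m → RowS r (POmega F (quadFormOdd m F))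
  oplus : ∀ (r : ℕ) (F : Type) [Field F] [Fintype F] [CharP F r] (m : ℕ), r ≠ 2 → 4 ≤ m → RowS r (POmega F (quadFormPlus m F))
  ominus : ∀ (r : ℕ) (F : Type) [Field F] [Fintype F] [CharP F r] (m : ℕ) (a b : F), r ≠ 2 → 4 ≤ m →
    (∀ z₁ z₂ : F, z₁ ^ 2 + a * z₁ * z₂ + b * z₂ ^ 2 = 0 → z₁ = 0 ∧ z₂ = 0) → RowS r (POmega F (quadFormMinus (m - 1) F a b))
  e7 : ∀ (r : ℕ) (F : Type) [Field F] [Fintype F] [CharP F r], r ≠ 2 → RowS r ↥(chevE7.group F)

/-- [TOOL] the reductions -/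
structure Tool : Prop where
  cv : ∀ (S : Type) [Group S] {A : Type} [CommGroup A] {m : ℕ}, center S = ⊥ → HasSchurMultiplier S A → (∀ a : A, a ^ m = 1) →
    (∀ n, n ∣ m → ¬ 2 ∣ n → Cv n S) → RowN 2 S
  odd : ∀ (S : Type) [Group S] {A : Type} [CommGroup A], HasSchurMultiplier S A → ¬ 2 ∣ Nat.card A → RowN 2 S
  rc : ∀ (S : Type) [Group S], T.RC 2 S → RowN 2 S
  st : ∀ (S : Type) [Group S] (r : ℕ) {A : Type} [CommGroup A], HasSchurMultiplier S A → ¬ r ∣ Nat.card A → RowS r S → RowN 2 S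
  deg : ∀ (S : Type) [Group S] (L : List ℕ), TAB.Use.DegList S L → (∀ d ∈ L, L.count d < 4) → Cv 1 S
  three : ∀ (S : Type) [Group S] [Finite S], ¬ 27 ∣ Nat.card S → (∀ P : Sylow 2 S, ¬ IsMulCommutative (P : Subgroup S)) →
    (∀ y : S, ¬ 2 ∣ orderOf y → y ≠ 1 → 4 ∣ Nat.card (centralizer ({y} : Set S)) → orderOf y = 3) → Cv 3 S

/-- the boxes -/
structure Bx : Prop where
  alt : For RowN CAlt
  lie : For RowN CLie
  psl : For RowN CPsl
  psu : For RowN CPsu
  cl : St → For RowN CPsp ∧ For RowN COdd ∧ For RowN CPlus ∧ For RowN CMinus ∧ For RowN CE7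
  ex : For RowN CG2 ∧ For RowN CF4 ∧ For RowN CE6 ∧ For RowN CE8 ∧ For RowN CTe6 ∧ For RowN CTd4 ∧ For RowN CRee
  spor : For RowN CSpor ∧ For RowN CTits

/-- [SUZ] -/
def BoxSuz : Prop := ∀ (S : Type) [Group S] [Finite S], Spor.IsoSuz S → Cv 3 S

/-- [FI] -/
def BoxFi : Prop := ∀ (S : Type) [Group S] [Finite S], Spor.IsoFi22 S → T.RC 2 S

/-- [O73] -/
def BoxO73 : Prop := ∀ (F : Type) [Field F] [Fintype F], Fintype.card F = 3 → RowN 2 (POmega F (quadFormOdd 3 F))

section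

variable {M : Ideal AlgInt} {K : Type} [Group K] {B : Set (IrrCharacter K)} {D : Subgroup K} {S T : Type} [Group S] [Group T]
  {σ : K →* S}

theorem Hn.congr (H : Hn M B D σ) (e : S ≃* T) : Hn M B D (e.toMonoidHom.comp σ) :=
  { H with
    ab := by
      rintro _ ⟨x, hx, rfl⟩ _ ⟨y, hy, rfl⟩
      have := congrArg e (H.ab _ ⟨x, hx, rfl⟩ _ ⟨y, hy, rfl⟩)
      rwa [map_mul, map_mul] at this
    surj := e.surjective.comp H.surj
    ker := by
      rw [← H.ker]
      ext x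
      simp [MonoidHom.mem_ker] }

theorem Hy.congr (H : Hy M B D σ) (e : S ≃* T) : Hy M B D (e.toMonoidHom.comp σ) := { H with toHn := H.toHn.congr e }

theorem RowN.of_equiv {p : ℕ} (e : S ≃* T) (h : RowN p T) : RowN p S := fun hp K _ _ _ M B D H => h hp K _ M B D (H.congr e)

theorem Cv.of_equiv {n : ℕ} (e : S ≃* T) (h : Cv n T) : Cv n S := fun K _ _ _ M B D H => h K _ M B D (H.congr e)

theorem RowN.two {p : ℕ} (h : p = 2 → RowN 2 S) : RowN p S := fun hp => h hp rfl

variable [Finite K]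

theorem Hn.loc (H : Hn M B D σ) : BHZ.Nil.Loc 2 S (D.map σ) :=
  have := Fact.mk Nat.prime_two
  BHZ.Nil.loc_of_nilpotent H.hM H.nil H.hD H.surj H.ker.le

theorem Hn.locB (H : Hn M B D σ) : BZ.T.LocB 2 (D.map σ) :=
  have := Fact.mk Nat.prime_two
  (BZ.T.locB_of_block H.hM H.hB H.hD).quot σ H.surj H.ker.le

theorem Hn.pg (H : Hn M B D σ) : IsPGroup 2 D := BHZ.Nil.isPGroup_defect H.hD

end

theorem Bx.all (b : Bx) (s : St) : All RowN where
  alt := b.alt
  lie := b.lie
  psl := b.psl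
  psp := (b.cl s).1
  psu := b.psu
  oodd := (b.cl s).2.1
  oplus := (b.cl s).2.2.1
  ominus := (b.cl s).2.2.2.1
  g2 := b.ex.1
  f4 := b.ex.2.1
  e6 := b.ex.2.2.1
  e7 := (b.cl s).2.2.2.2
  e8 := b.ex.2.2.2.1
  te6 := b.ex.2.2.2.2.1
  td4 := b.ex.2.2.2.2.2.1
  sz := fun _ _ _ _ _ _ _ h e => absurd e h.1
  ree := b.ex.2.2.2.2.2.2
  tf4 := fun _ _ _ _ _ _ _ h e => absurd e h.1
  tits := b.spor.2
  spor := b.spor.1

/-- **the assembly** -/
theorem boxN2_of (h : All RowN) : BoxN2' := fun M hM K _ _ hK B D hB hD hN hX hc => by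
  have := Fact.mk Nat.prime_two
  have := hK.2
  refine BK.ab_iff.1 (h.known 2 (K ⧸ center K) (TO.not_comm_quot hK) S0000.result rfl K (QuotientGroup.mk' _) M B D
    ⟨hM, hB, hD, hN, hX, ?_, hK, QuotientGroup.mk'_surjective _, QuotientGroup.ker_mk' _⟩)
  rintro _ ⟨x, hx, rfl⟩ _ ⟨y, hy, rfl⟩
  rw [← commutatorElement_eq_one_iff_mul_comm, ← map_commutatorElement, QuotientGroup.mk'_apply, QuotientGroup.eq_one_iff]
  exact hc (commutator_mem_commutator hx hy)

end Cfsg.Agent.BZ.N2
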