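import Cfsg.Agent.BZ.N2.Defs
import Cfsg.Agent.BZ.C1.Gen
import Cfsg.Agent.SignalizersComponents.BalEndSz
import Cfsg.Agent.S2100
import Cfsg.Agent.S2101
import Cfsg.Agent.S2103
import Cfsg.Agent.S2105
import Cfsg.Agent.S2107
import Cfsg.Agent.S2108
import Cfsg.Agent.S2110
import Cfsg.Agent.S2113

/-!
# BZ / N2 : the rows in characteristic two and the exceptional rows with an odd multiplier (helper33)

* `rowLie_of : Tool → For RowN CLie`;
* `rowEx_of : Tool → ` the field `Bx.ex`.
-/

set_option autoImplicit false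
set_option linter.unusedSectionVars false

namespace Cfsg.Agent.BZ.N2

open Cfsg Cfsg.Lie Subgroup Cfsg.Agent.KM

namespace Li

/-- groups of Lie type in characteristic two : local data are Sylow subgroups or cyclic -/
theorem rc_lie {S : Type} [Group S] [Finite S] (h : IsLieTypeChar 2 S) : T.RC 2 S := by
  have := Fact.mk Nat.prime_two
  by_cases hz : Lie.IsoSuzuki S
  · refine T.rc_of_atC fun y hy => T.atC_of_constr ?_
    have hP := SignalizersComponents.BalEndSz.isPGroup_centralizer_suzuki hz hy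
    refine ⟨centralizer ({y} : Set S), hP, fun x hx u hu => ?_, fun r h1 h2 => ?_⟩
    · have hx' : x ∈ centralizer ({y} : Set S) := mem_centralizer_singleton_iff.2 hx.symm
      exact mul_mem (mul_mem hx' hu) (inv_mem hx')
    · have hr : r ∈ centralizer ({y} : Set S) :=
        mem_centralizer_singleton_iff.2 (h1 y (mem_centralizer_singleton_iff.2 rfl)).symm
      obtain ⟨k, hk⟩ := hP ⟨r, hr⟩
      exact BHZ.Spor.eq_one_of_reg h2 (k := k) (congrArg Subtype.val hk)
  · exact C1.rc_of_locChar (H400.LieLocal.local_char_of_lie h fun h' => hz h'.2)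

theorem odd_card {F : Type} [Field F] [Fintype F] (h : ((2 : ℕ) : F) ≠ 0) : ¬ 2 ∣ Fintype.card F := fun h2 => by
  obtain ⟨r, hr⟩ := CharP.exists F
  obtain ⟨m, hpp, hm⟩ := FiniteField.card F r
  rw [hm] at h2
  have h3 := (Nat.prime_dvd_prime_iff_eq Nat.prime_two hpp).1 (Nat.prime_two.dvd_of_dvd_pow h2)
  subst h3
  exact h (CharP.cast_eq_zero F 2)

theorem row_cyc (T : Tool) {S U : Type} [Group S] [Group U] (e : S ≃* U) {n : ℕ} (hn : n ∣ 3)
    (h : HasCyclicSchurMultiplier U n) : RowN 2 S := by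
  refine RowN.of_equiv e (T.odd U h ?_)
  rw [Nat.card_congr (Multiplicative.toAdd : Multiplicative (ZMod n) ≃ ZMod n), Nat.card_zmod]
  exact fun h2 => absurd (h2.trans hn) (by decide)

end Li

open Li

/-- **the groups of Lie type in characteristic two** -/
theorem rowLie_of (T : Tool) : For RowN CLie := fun _ _ S _ _ _ _ h =>
  RowN.two fun e => T.rc S (rc_lie (by subst e; exact h))

/-- **the exceptional rows with an odd multiplier** -/
theorem rowEx_of (T : Tool) : For RowN CG2 ∧ For RowN CF4 ∧ For RowN CE6 ∧ For RowN CE8 ∧ For RowN CTe6 ∧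
    For RowN CTd4 ∧ For RowN CRee := by
  refine ⟨?_, ?_, ?_, ?_, ?_, ?_, ?_⟩
  · rintro p _ S _ _ _ _ ⟨F, _, _, hF, h3, ⟨e⟩⟩
    refine RowN.two fun h2 => ?_
    subst h2
    have := odd_card hF
    by_cases h : Fintype.card F = 3
    · exact row_cyc T e dvd_rfl (S2101.result h)
    · exact row_cyc T e (one_dvd _) (S2100.result (by omega))
  · rintro p _ S _ _ _ _ ⟨F, _, _, hF, ⟨e⟩⟩
    refine RowN.two fun h2 => ?_
    subst h2
    have := odd_card hF
    have h1 : 1 < Fintype.card F := Fintype.one_lt_card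
    exact row_cyc T e (one_dvd _) (S2103.result (by omega))
  · rintro p _ S _ _ _ _ ⟨F, _, _, -, ⟨e⟩⟩
    exact RowN.two fun _ => row_cyc T e (Nat.gcd_dvd_left _ _) (S2105.result rfl)
  · rintro p _ S _ _ _ _ ⟨F, _, _, -, ⟨e⟩⟩
    exact RowN.two fun _ => row_cyc T e (one_dvd _) S2107.result
  · rintro p _ S _ _ _ _ ⟨K, _, _, q, hF, hq, hK, ⟨e⟩⟩
    refine RowN.two fun h2 => ?_
    subst h2
    refine row_cyc T e (Nat.gcd_dvd_left _ _) (S2108.result hq hK ?_)
    rintro rfl
    exact odd_card hF (by rw [hK]; decide)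
  · rintro p _ S _ _ _ _ ⟨K, _, _, q, -, hq, hK, ⟨e⟩⟩
    exact RowN.two fun _ => row_cyc T e (one_dvd _) (S2110.result hq hK)
  · rintro p _ S _ _ _ _ ⟨-, K, _, _, m, hm, hK, ⟨e⟩⟩
    exact RowN.two fun _ => row_cyc T e (one_dvd _) (S2113.result hm hK)

end Cfsg.Agent.BZ.N2
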