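import Cfsg.Agent.BZ.N2.Defs
import Cfsg.Agent.TAB.Sm2.M12
import Cfsg.Agent.TAB.Sm2.M22
import Cfsg.Agent.TAB.J2.Main
import Cfsg.Agent.TAB.HS.Main
import Cfsg.Agent.TAB.Ru.Main
import Cfsg.Agent.TAB.Suz.Main
import Cfsg.Agent.TAB.Co1.Tab
import Cfsg.Agent.TAB.B.Fin.Main
import Cfsg.Agent.SP.NegS.M22F

/-!
# BZ / N2 : the sporadic groups and the Tits group (helper10)
-/

set_option autoImplicit false
set_option linter.unusedSectionVars false
set_option maxRecDepth 100000

namespace Cfsg.Agent.BZ.N2

open Cfsg Subgroup Cfsg.Agent.KM Cfsg.Agent.TAB Cfsg.Agent.TAB.Use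

namespace SpR

variable (T : Tool) {S S' : Type} [Group S] [Group S'] {m : ℕ}

theorem ctr [IsSimpleGroup S] (hn : ¬ IsMulCommutative S) (e : S ≃* S') : center S' = ⊥ := by
  have := e.symm.isSimpleGroup
  refine (Subgroup.Normal.eq_bot_or_eq_top inferInstance).resolve_right fun h => hn ⟨⟨fun a b => e.injective ?_⟩⟩
  rw [map_mul, map_mul]
  exact mem_center_iff.1 (h ▸ mem_top _) _

theorem m22_syl (P : Sylow 2 Spor.M22) : ¬ IsMulCommutative (P : Subgroup Spor.M22) := fun h => by
  have : Fact (Nat.Prime 2) := ⟨Nat.prime_two⟩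
  obtain ⟨T, hm, -⟩ := Sm2.M22.tab
  have : Finite Spor.M22 := Nat.finite_of_card_ne_zero (by rw [hm.1]; decide)
  obtain ⟨x, hx⟩ := (Nat.card_ne_zero.1 ((hm.2 3 (by decide)).trans_ne (by decide))).1
  have h1 : orderOf x = 2 ^ 2 := by rw [T.ord, hx]; rfl
  obtain ⟨Q, hQ⟩ := (IsPGroup.of_card ((Nat.card_zpowers x).trans h1)).exists_le_sylow
  have e := P.equiv Q
  have h2 : (Q : Subgroup Spor.M22) ≤ centralizer {x} := fun y hy => mem_centralizer_singleton_iff.2 (congrArg Subtype.val
    (e.symm.injective (by rw [map_mul, map_mul, h.is_comm.comm]) : (⟨y, hy⟩ * ⟨x, hQ (mem_zpowers x)⟩ : Q) = ⟨x, _⟩ * ⟨y, _⟩))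
  have h3 := (card_le_of_le h2).trans (SP.NegS.M22.cent4 (k := 2) (fun e => by
    have := orderOf_dvd_of_pow_eq_one ((pow_two x).trans e)
    rw [h1] at this
    exact absurd this (by decide)) (h1 ▸ pow_orderOf_eq_one x))
  have h4 := Q.pow_dvd_card_of_pow_dvd_card (n := 7) (by rw [hm.1]; decide)
  exact absurd ((Nat.le_of_dvd Nat.card_pos h4).trans h3) (by decide)

include T

theorem odd (hm : HasCyclicSchurMultiplier S' m) (h : ¬ 2 ∣ m) (e : S ≃* S') : RowN 2 S :=
  RowN.of_equiv e (T.odd S' hm (by rwa [Nat.card_congr Multiplicative.toAdd, Nat.card_zmod]))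

theorem cov [IsSimpleGroup S] (hn : ¬ IsMulCommutative S) (hm : HasCyclicSchurMultiplier S' m) (h : m ∣ 12) {L : List ℕ}
    (hL : DegList S' L) (h1 : ∀ d ∈ L, L.count d < 4) (h3 : 3 ∣ m → Cv 3 S') (e : S ≃* S') : RowN 2 S :=
  RowN.of_equiv e (T.cv S' (m := m) (ctr hn e) hm (fun a => by
    have := pow_card_eq_one' (x := a)
    rwa [Nat.card_congr Multiplicative.toAdd, Nat.card_zmod] at this) fun n h4 h5 => by
    have h6 : n ∣ 3 := Nat.Coprime.dvd_of_dvd_mul_left (((Nat.prime_two.coprime_iff_not_dvd.2 h5).symm).pow_right 2) (h4.trans h)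
    rcases (Nat.dvd_prime Nat.prime_three).1 h6 with rfl | rfl
    exacts [T.deg S' L hL h1, h3 h4])

theorem m22 : Cv 3 Spor.M22 := by
  have : Fact (Nat.Prime 2) := ⟨Nat.prime_two⟩
  obtain ⟨U, hm, -⟩ := Sm2.M22.tab
  have : Finite Spor.M22 := Nat.finite_of_card_ne_zero (by rw [hm.1]; decide)
  refine T.three _ (by rw [hm.1]; decide) m22_syl fun y h1 h2 h3 => ?_
  obtain ⟨x, hx⟩ := exists_prime_orderOf_dvd_card' 2 ((by decide : 2 ∣ 4).trans h3)
  rw [← orderOf_coe] at hx
  have h4 := Commute.orderOf_mul_eq_mul_orderOf_of_coprime (mem_centralizer_singleton_iff.1 x.2)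
    (by rw [hx]; exact Nat.prime_two.coprime_iff_not_dvd.2 h1)
  have key : ∀ i < 10, ∀ j < 10, Sm2.M22.dat.ord j = 2 * Sm2.M22.dat.ord i → 2 ∣ Sm2.M22.dat.ord i ∨
      Sm2.M22.dat.ord i = 1 ∨ Sm2.M22.dat.ord i = 3 := by decide +kernel
  rw [U.ord]
  exact ((key _ (U.lt y) _ (U.lt (x * y)) (by rw [← U.ord, ← U.ord, h4, hx])).resolve_left
    (by rwa [← U.ord])).resolve_left (by rw [← U.ord]; exact fun e => h2 (orderOf_eq_one_iff.1 e))

end SpR

open SpR in
/-- the field `Bx.spor` -/
theorem rowSpor (T : Tool) (hS : BoxSuz) (hF : BoxFi) : For RowN CSpor ∧ For RowN CTits := by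
  refine ⟨fun p _ S _ _ _ hn h => RowN.two fun _ => ?_, fun p _ S _ _ _ _ h => RowN.two fun _ => ?_⟩
  · rcases h with h | h | h | h | h | h | h | h | h | h | h | h | h | h | h | h | h | h | h | h | h | h | h | h | h | h
    · exact h.elim (odd T S2034.result (by decide))
    · exact h.elim (cov T hn S2035.result (by decide) Sm2.M12.deg (by decide +kernel) fun e => absurd e (by decide))
    · exact h.elim (cov T hn S2036.result (by decide) Sm2.M22.deg (by decide +kernel) fun _ => m22 T)
    · exact h.elim (odd T S2037.result (by decide))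
    · exact h.elim (odd T S2038.result (by decide))
    · exact h.elim (odd T S2039.result (by decide))
    · exact h.elim (cov T hn S2040.result (by decide) J2.deg (by decide +kernel) fun e => absurd e (by decide))
    · obtain ⟨F, iF, iN, ω, hF, hω, ⟨e⟩⟩ := h
      exact odd T (S2041.result hF ω hω) (by decide) e
    · exact h.elim (odd T S2042.result (by decide))
    · exact h.elim (cov T hn S2043.result (by decide) Co1.deg (by decide +kernel) fun e => absurd e (by decide))
    · exact h.elim (odd T S2044.result (by decide))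
    · exact h.elim (odd T S2045.result (by decide))
    · exact h.elim (odd T S2047.result (by decide))
    · exact h.elim (cov T hn S2046.result (by decide) HS.deg (by decide +kernel) fun e => absurd e (by decide))
    · exact h.elim fun e => cov T hn S2048.result (by decide) Suz.deg (by decide +kernel)
        (fun _ => @hS _ _ (Finite.of_equiv S e.toEquiv) ⟨MulEquiv.refl _⟩) e
    · exact h.elim (odd T S2049.result (by decide))
    · exact h.elim (cov T hn S2051.result (by decide) Ru.deg (by decide +kernel) fun e => absurd e (by decide))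
    · exact h.elim (odd T S2052.result (by decide))
    · exact h.elim (odd T S2050.result (by decide))
    · exact T.rc S (hF S h)
    · exact h.elim (odd T S2054.result (by decide))
    · exact h.elim (odd T S2055.result (by decide))
    · exact h.elim (odd T S2056.result (by decide))
    · exact h.elim (odd T S2057.result (by decide))
    · exact h.elim (cov T hn S2058.result (by decide) B.Fin.deg (by decide +kernel) fun e => absurd e (by decide))
    · exact h.elim (odd T S2059.result (by decide))
  · obtain ⟨e⟩ := h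
    exact odd T (S' := Lie.TitsGroup) S2115.result (by decide) (by exact e)

end Cfsg.Agent.BZ.N2
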