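import Cfsg.Agent.BZ.N2.Defs
import Cfsg.Agent.BZ.C1.Suz
import Cfsg.Agent.BZ.C1.Fi

/-!
# BZ / N2 : the boxes for the Suzuki group and for `Fi22` (helper80)
-/

set_option autoImplicit false
set_option linter.unusedSectionVars false
set_option maxRecDepth 100000

namespace Cfsg.Agent.BZ.N2

open Cfsg Subgroup Cfsg.Agent.KM Cfsg.Agent.BZ.T Cfsg.Agent.BHZ.Spor
open scoped commutatorElement

namespace SF

section

variable {M : Ideal AlgInt} {K : Type} [Group K] [Finite K] {B : Set (IrrCharacter K)} {D : Subgroup K} {S : Type}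
  [Group S] {σ : K →* S}

theorem fus (H : Hn M B D σ) {Q : Subgroup S} (hQ : Q ≤ D.map σ) {x : S} (hx : x ∈ normalizer (Q : Set S))
    (hr : ¬ 2 ∣ orderOf x) (hy : ∀ y ∈ centralizer (Q : Set S), ¬ 2 ∣ orderOf y →
      y ∈ ⁅centralizer ({x} : Set S), centralizer ({x} : Set S)⁆) : x ∈ centralizer (Q : Set S) := by
  have h2 := Fact.mk Nat.prime_two
  have hc := H.ker.le
  have hs := BHZ.Nil.sat_defect H.hM H.hB H.hD hc
  have hQ' : (D ⊓ Q.comap σ).map σ = Q := by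
    apply le_antisymm
    · rintro _ ⟨a, ha, rfl⟩
      exact ha.2
    · intro y hy
      obtain ⟨a, ha, rfl⟩ := hQ hy
      exact ⟨a, ⟨ha, hy⟩, rfl⟩
  have hQp : IsPGroup 2 (D ⊓ Q.comap σ : Subgroup K) := H.pg.to_inf_left
  have hQs : BHZ.Nil.Sat 2 σ (D ⊓ Q.comap σ) := fun z hz n hn =>
    ⟨hs z hz n hn, mem_comap.2 (hz ▸ one_mem Q)⟩
  generalize hQ0 : D ⊓ Q.comap σ = Q0 at hQ' hQp hQs
  have hQ0D : Q0 ≤ D := hQ0 ▸ inf_le_left
  subst hQ'
  obtain ⟨x, rfl⟩ := H.surj x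
  obtain ⟨n, hn, hxn⟩ := BHZ.Nil.exists_reg_lift x hr
  rw [← hxn] at hx hy ⊢
  generalize x ^ n = w at hn hx hy
  refine BHZ.Nil.map_mem_centralizer (BHZ.Nil.mem_centralizer_of_nilpotent H.hM H.nil H.hD hQ0D
    (hQs.mem_normalizer hc hQp hx) hn fun y h3 h4 => ?_)
  have h5 := hy _ (BHZ.Nil.map_mem_centralizer h3) (BHZ.Nil.reg_map h4)
  rw [← map_comap_eq_self_of_surjective H.surj (centralizer {σ w}), ← map_commutator] at h5
  obtain ⟨u, hu, h6⟩ := h5
  have h7 := mem_centralizer_singleton_iff.1 (BHZ.Nil.cent_commutator_le hc (y := w)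
    (fun k hk => mem_centralizer_singleton_iff.1 (mem_comap.1 hk)) hu)
  have h8 := BHZ.Nil.cent_comm hc (z := u⁻¹ * y) (by rw [map_mul, map_inv, h6, inv_mul_cancel]) w
  calc w * y = w * u * (u⁻¹ * y) := by group
    _ = u * (w * (u⁻¹ * y)) := by rw [← h7, mul_assoc]
    _ = y * w := by rw [h8]; group

theorem bot_of_rt (H : Hn M B D σ) (h : RegTriv 2 (D.map σ)) : D.map σ = ⊥ := by
  have h2 := Fact.mk Nat.prime_two
  have := Finite.of_surjective σ H.surj
  refine H.loc.eq_bot_of_abelian (eq_top_iff.2 fun x _ => BHZ.Nil.mem_KK_iff.2 fun y h3 h4 => ?_) ?_ (BK.ab_iff.1 H.ab)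
  · rw [h y (fun d hd => mem_centralizer_iff.1 h3 d hd) h4, one_mul, mul_one]
  · rw [commutator_def, ← MonoidHom.range_eq_top.2 H.surj, MonoidHom.range_eq_map, ← map_commutator, ← commutator_def,
      H.qs.1.commutator_eq_top]

theorem ne_bot (H : Hy M B D σ) : D.map σ ≠ ⊥ := fun h => by
  have h2 := Fact.mk Nat.prime_two
  rw [Subgroup.map_eq_bot_iff, H.ker] at h
  obtain ⟨k, hk⟩ := H.toHn.pg.exists_card_eq
  have h3 := card_dvd_of_le h
  cases k with
  | zero => exact H.nc (isCyclic_of_card_dvd_prime (p := 2) (by rw [hk]; decide))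
  | succ k => exact H.zp ((Dvd.intro_left _ (pow_succ 2 k).symm).trans (hk ▸ h3))

end

section

open Cfsg.Spor Cfsg.Agent.KFacts.SuzLFour Cfsg.Agent.KFacts.SuzTwoB

theorem e0_mem : e0 ∈ V := mem_V.2 (.inr (.inl rfl))

theorem conj_V {g : Suz} (hg : g ∈ CE) {v : Suz} (hv : v ∈ V) : g * v * g⁻¹ ∈ V := by
  refine cent_L (fun l hl => ?_) (mem_CE.1 (CE.mul_mem (CE.mul_mem hg (VL_le (V_le hv))) (CE.inv_mem hg)))
  have h := V_comm v hv _ (conj_L (CE.inv_mem hg) hl)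
  calc g * v * g⁻¹ * l = g * (v * (g⁻¹ * l * g⁻¹⁻¹)) * g⁻¹ := by group
    _ = l * (g * v * g⁻¹) := by rw [h]; group

theorem x0_V {v : Suz} (hv : v ∈ V) : x0 * v * x0⁻¹ ∈ V := by
  rcases mem_V.1 hv with rfl | rfl | rfl | rfl
  · rw [mul_one, mul_inv_cancel]
    exact V.one_mem
  · exact mem_V.2 (.inr (.inr (.inl rfl)))
  · exact mem_V.2 (.inr (.inr (.inr (by rw [e2_eq, e1]; group))))
  · exact mem_V.2 (.inr (.inl (by rw [e2]; group)))

theorem sq_V {v : Suz} (hv : v ∈ V) : v ^ 2 = 1 := by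
  rw [pow_two]
  rcases mem_V.1 hv with rfl | rfl | rfl | rfl
  exacts [one_mul _, e0_sq, e1_sq, e2_sq]

theorem mem_L {y : Suz} (hy : y ∈ CE) (ho : ¬ 2 ∣ orderOf y) : y ∈ L := by
  have h2 := Fact.mk Nat.prime_two
  have h1 : y ^ 2 ∈ VL := mem_subgroupOf.1 (sq_mem_of_index_two idx.1 (⟨y, hy⟩ : CE))
  obtain ⟨m, hm⟩ := exists_pow_eq_self_of_coprime (x := y) (n := 2 * 2)
    (Nat.Coprime.mul_left (Nat.prime_two.coprime_iff_not_dvd.2 ho) (Nat.prime_two.coprime_iff_not_dvd.2 ho))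
  obtain ⟨v, hv, l, hl, h3⟩ := h1
  rw [← hm, pow_mul, ← h3, (show Commute v l from V_comm v hv l hl).mul_pow, sq_V hv, one_mul]
  exact L.pow_mem (L.pow_mem hl 2) m

theorem suz {M : Ideal AlgInt} {K : Type} [Group K] [Finite K] {B : Set (IrrCharacter K)} {D : Subgroup K}
    {σ : K →* Suz} (H : Hn M B D σ) : e0 ∉ D.map σ := fun he => by
  have h2 := Fact.mk Nat.prime_two
  have := Finite.of_surjective σ H.surj
  have h3 : V ≤ D.map σ := H.locB.core V (IsPGroup.of_card (n := 2) card_V)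
    (fun x hx _ hu => conj_V (mem_CE.2 (H.ab x hx _ he)) hu) fun x hx _ hu => conj_V (mem_CE.2 (hx _ he).symm) hu
  have h4 : L ≤ centralizer ({x0} : Set Suz) := fun l hl => mem_centralizer_singleton_iff.2 (x0_comm l hl).symm
  have h5 := fus H h3 (x := x0) (mem_normalizer_fintype fun _ => x0_V) (fun h => by
      have h6 := h.trans (orderOf_dvd_of_pow_eq_one (n := 3) (by rw [pow_succ, pow_two, x0_cube]))
      omega)
    fun y h6 h7 => commutator_mono h4 h4 (perfect'.symm ▸ mem_L (mem_CE.2 (mem_centralizer_iff.1 h6 _ e0_mem).symm) h7)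
  exact e1_ne (by rw [e1, ← mem_centralizer_iff.1 h5 _ e0_mem, mul_inv_cancel_right])

end

/-- `C(y) / ⟨y⟩` has only trivial or maximal local data -/
theorem atC_of_descend {p : ℕ} [Fact p.Prime] {S T : Type} [Group S] [Finite S] [Group T] {y : S}
    (φ : centralizer ({y} : Set S) →* T) (hs : Function.Surjective φ) (hk : ∀ n, φ n = 1 → (n : S) ∈ zpowers y)
    (hT : R0 p T) : AtC p y := fun _ hD hy hyD =>
  (hT _ (hD.descend hy hyD φ hs hk)).elim (fun h => .inl (rt_of_descend hy hD.pg φ hk h)) fun h =>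
    .inr (isCyclic_iff_le.2 ⟨y, hy, fun d hd => hk ⟨d, mem_centralizer_singleton_iff.2 (hyD d hd).symm⟩ (by
      rw [← mem_bot, ← h]
      exact mem_map_of_mem φ (mem_subgroupOf.2 hd))⟩)

theorem r0_psu {n : ℕ} {F : Type} [Field F] [Fintype F] (hF : Fintype.card F = 2 ^ 2) (hn : 4 ≤ n) {T : Type} [Group T]
    [Finite T] (e : T ≃* PSU n F 2) : R0 2 T := by
  have hp := Fact.mk Nat.prime_two
  have hc : CharP F 2 := by
    obtain ⟨r, hr⟩ := CharP.exists F
    obtain ⟨m, hpp, hm⟩ := FiniteField.card F r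
    have h1 : r ∣ 2 ^ 2 := by
      rw [← hF, hm]
      exact dvd_pow_self r m.ne_zero
    rwa [(Nat.prime_dvd_prime_iff_eq hpp hp.out).1 (hpp.dvd_of_dvd_pow h1)] at hr
  have h : IsPSUChar 2 T := ⟨F, inferInstance, inferInstance, hc, n, 2, hF, by omega, by omega, ⟨e⟩⟩
  have := H400.LieSimple.isSimple_of_lie (p := 2) (Or.inr (Or.inr (Or.inl h)))
  exact r0_of_constr fun _ hy => constr_of_locChar
    (H400.LieLocal.locChar_of_filt (KFacts.RgdLieCharP.hasFilt_of_lie (Or.inr (Or.inr (Or.inl h))))) hy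

section

open Cfsg.Spor Cfsg.Agent.BHZ.Spor.F22 Cfsg.Agent.BZ.C1.Fi
open Cfsg.Agent.TAB.F22 (dat td hom fin22)
open Cfsg.Agent.KFacts.FiTT (exists_base)

theorem rc2 : RC 2 Fi22 := by
  have := fin22
  have h2 := Fact.mk Nat.prime_two
  obtain ⟨_, d, _, lift, B⟩ := exists_base ⟨MulEquiv.refl Fi22⟩
  have F := B.facts
  have i1 := (centralizer ({d} : Set Fi22)).card_mul_index
  have i2 := card_mul_index (centralizer ({d * KFacts.FiTT.d2 lift} : Set Fi22))
  rw [B.index_C, F.card] at i1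
  rw [B.index_z, F.card] at i2
  generalize KFacts.FiTT.d2 lift = d' at F i2
  have o1 : orderOf d = 2 := orderOf_eq_prime (by rw [pow_two, F.dd]) F.d_ne
  have s2 : (d * d') ^ 2 = 1 := by rw [(show Commute d d' from F.comm).mul_pow, pow_two, pow_two, F.dd, F.dd', mul_one]
  have o2 : orderOf (d * d') = 2 := orderOf_eq_prime s2 fun h => F.ne (mul_left_cancel (a := d) (F.dd.trans h.symm))
  have t1 : td.ty d = 3 := (by decide +kernel : ∀ i < dat.n, 2 = dat.ord i → ¬ U3.getD i 0 < 6 → i = 3) _ (td.lt d)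
    (o1.symm.trans (td.ord d)) (KM.Sp.le_ub hy ub3 (by omega))
  have t2 : td.ty (d * d') = 2 :=
    (by decide +kernel : ∀ i < dat.n, 2 = dat.ord i → ¬ U3.getD i 0 < 4 → ¬ U2.getD i 0 < 17 → i = 2) _ (td.lt _)
      (o2.symm.trans (td.ord _)) (KM.Sp.le_ub hy ub3 (by omega)) (KM.Sp.le_ub hy ub2 (by omega))
  refine rc_of_atC fun z hz => ?_
  rcases (by decide +kernel : ∀ i < dat.n, 2 = dat.ord i → i = 1 ∨ i = 2 ∨ i = 3) _ (td.lt z) (hz.symm.trans (td.ord z))
    with h | h | h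
  · exact atC_of_constr (constr1 hz h)
  · obtain ⟨α, rfl, -⟩ := hom _ z (t2.trans h.symm)
    refine (atC_of_constr ⟨_, F.R_two, fun x hx => F.R_normal x hx.symm, fun r h3 h4 => eq_one_of_reg h4 (k := 1) ?_⟩).congr α
    rcases F.R_center r fun y hy => (h3 y hy).symm with rfl | rfl | rfl | rfl
    · exact one_pow _
    · rw [pow_one, pow_two, F.dd]
    · rw [pow_one, pow_two, F.dd']
    · exact s2
  · obtain ⟨α, rfl, -⟩ := hom _ z (t1.trans h.symm)
    obtain ⟨k, _, _, hk, ⟨e⟩⟩ := F.quo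
    refine (atC_of_descend (QuotientGroup.mk' _) (QuotientGroup.mk'_surjective _) (fun n hn => ?_)
      (r0_psu hk (by norm_num) e)).congr α
    rcases F.cc n fun y hy => congrArg Subtype.val (mem_center_iff.1 ((QuotientGroup.eq_one_iff n).1 hn)
      ⟨y, mem_centralizer_singleton_iff.2 hy⟩).symm with h3 | h3 <;> rw [h3]
    · exact one_mem _
    · exact mem_zpowers d

end

/-- no cover of `Suz` with a centre of odd order has such a block -/
theorem cv_suz (n : ℕ) : Cv n Spor.Suz := fun K _ _ σ M B D H _ => by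
  have h2 := Fact.mk Nat.prime_two
  have := Finite.of_surjective σ H.surj
  have h := H.toHn.locB
  obtain ⟨z, hz, ho, hc⟩ := exists_central h.pg (ne_bot H) le_rfl
    fun d hd u hu => mul_mem (mul_mem hd hu) (inv_mem hd)
  rcases CpAutSuz.Classes.exists_conj_inv ho with hg | ⟨g, rfl⟩
  · exact ne_bot H (bot_of_rt H.toHn (h.rt_of_constr hz hc (C1.Sz.constr_z0.conj (isConj_iff.2 hg))))
  · obtain ⟨d, hd, h3⟩ := hz
    exact suz (H.toHn.congr (MulAut.conj g⁻¹)) ⟨d, hd, by simp [h3, mul_assoc]⟩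

end SF

theorem boxSuz : BoxSuz := fun _ _ _ ⟨e⟩ => Cv.of_equiv e (SF.cv_suz 3)

theorem boxFi : BoxFi := fun _ _ _ ⟨e⟩ =>
  have := Fact.mk Nat.prime_two
  SF.rc2.congr e.symm

end Cfsg.Agent.BZ.N2
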